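import Cfsg.Agent.Lib.TransvMax.UFrame.Circle

/-!
Elements of the stabiliser of a coordinate decomposition in a unitary group.
-/

set_option autoImplicit false

namespace Cfsg.Agent.UFrame

open scoped Matrix MatrixGroups
open Cfsg.Agent

variable {F : Type*} [Field F]

section Embed

variable {n m : ℕ} (s : Fin m ↪ Fin n)

/-- The matrix of the coordinate inclusion. -/
noncomputable def incl (F : Type*) [Field F] {n m : ℕ} (s : Fin m ↪ Fin n) : Matrix (Fin n) (Fin m) F :=
  Matrix.of fun i r => if i = s r then 1 else 0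

theorem incl_t_mul : (incl F s).transpose * incl F s = 1 := by
  ext r r'
  rw [Matrix.mul_apply, Finset.sum_eq_single (s r)]
  · by_cases h : r = r'
    · subst h; simp [incl]
    · simp [incl, h, Matrix.one_apply_ne h]
  · intro i _ hi
    simp [incl, hi]
  · simp

/-- A matrix acting on the coordinates in the range of `s`, as the identity elsewhere. -/
noncomputable def emb : Matrix (Fin m) (Fin m) F →* Matrix (Fin n) (Fin n) F where
  toFun M := 1 + incl F s * (M - 1) * (incl F s).transpose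
  map_one' := by simp
  map_mul' M N := by
    have key : ∀ A B : Matrix (Fin m) (Fin m) F,
        incl F s * A * (incl F s).transpose * (incl F s * B * (incl F s).transpose) =
          incl F s * (A * B) * (incl F s).transpose := fun A B => by
      simp only [Matrix.mul_assoc]
      rw [← Matrix.mul_assoc (incl F s).transpose (incl F s), incl_t_mul, Matrix.one_mul]
    rw [Matrix.add_mul, Matrix.one_mul, Matrix.mul_add, Matrix.mul_one, key,
      show M * N - 1 = (M - 1) + (N - 1) + (M - 1) * (N - 1) by noncomm_ring, Matrix.mul_add,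
      Matrix.mul_add, Matrix.add_mul, Matrix.add_mul]
    abel

theorem emb_det (M : Matrix (Fin m) (Fin m) F) : (emb s M).det = M.det := by
  show (1 + incl F s * (M - 1) * (incl F s).transpose).det = _
  rw [Matrix.det_one_add_mul_comm, ← Matrix.mul_assoc, incl_t_mul, Matrix.one_mul, add_sub_cancel]

theorem incl_t_mulVec (x : Fin n → F) : (incl F s).transpose *ᵥ x = fun r => x (s r) := by
  funext r
  simp [Matrix.mulVec, dotProduct, incl]

theorem incl_mulVec_mem (a : Fin m → F) (r : Fin m) : (incl F s *ᵥ a) (s r) = a r := by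
  simp [Matrix.mulVec, dotProduct, incl]

theorem incl_mulVec_notMem (a : Fin m → F) {i : Fin n} (hi : ∀ r, i ≠ s r) :
    (incl F s *ᵥ a) i = 0 := by
  simp [Matrix.mulVec, dotProduct, incl, hi]

theorem emb_mulVec_mem (M : Matrix (Fin m) (Fin m) F) (x : Fin n → F) (r : Fin m) :
    (emb s M *ᵥ x) (s r) = (M *ᵥ fun r' => x (s r')) r := by
  show ((1 + incl F s * (M - 1) * (incl F s).transpose) *ᵥ x) (s r) = _
  rw [Matrix.add_mulVec, Matrix.one_mulVec, ← Matrix.mulVec_mulVec, ← Matrix.mulVec_mulVec,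
    incl_t_mulVec, Pi.add_apply, incl_mulVec_mem, Matrix.sub_mulVec, Matrix.one_mulVec]
  simp

theorem emb_mulVec_notMem (M : Matrix (Fin m) (Fin m) F) (x : Fin n → F) {i : Fin n}
    (hi : ∀ r, i ≠ s r) : (emb s M *ᵥ x) i = x i := by
  show ((1 + incl F s * (M - 1) * (incl F s).transpose) *ᵥ x) i = _
  rw [Matrix.add_mulVec, Matrix.one_mulVec, ← Matrix.mulVec_mulVec, ← Matrix.mulVec_mulVec,
    incl_t_mulVec, Pi.add_apply, incl_mulVec_notMem s _ hi, add_zero]

/-- The same on invertible matrices. -/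
noncomputable def embGL : GL (Fin m) F →* GL (Fin n) F := Units.map (emb s)

theorem embGL_val (g : GL (Fin m) F) :
    (embGL s g : Matrix (Fin n) (Fin n) F) = emb s (g : Matrix (Fin m) (Fin m) F) := rfl

theorem sum_emb (a : Fin n → F) (b : Fin m → F) (c : Fin n → F) (hb : ∀ r, a (s r) = b r)
    (hc : ∀ i, (∀ r, i ≠ s r) → a i = c i) :
    ∑ i, a i = ∑ r, b r + ∑ i ∈ Finset.univ \ Finset.univ.map s, c i := by
  rw [← Finset.sum_sdiff (Finset.subset_univ (Finset.univ.map s)), add_comm, Finset.sum_map]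
  refine congr_arg₂ (· + ·) (Finset.sum_congr rfl fun r _ => hb r) (Finset.sum_congr rfl fun i hi => ?_)
  exact hc i fun r e => (Finset.mem_sdiff.1 hi).2 (Finset.mem_map.2 ⟨r, Finset.mem_univ r, e.symm⟩)

end Embed

section Elements

variable [Fintype F] {n q : ℕ} {σ : F ≃+* F}

/-- The group of determinant one isometries. -/
abbrev sU (n q : ℕ) (F : Type*) [Field F] : Subgroup (GL (Fin n) F) :=
  Cfsg.GU n F q ⊓ Cfsg.Geo.specialLinear (Fin n) F

theorem Sq.herm_apply (S : Sq q σ) (x y : Fin n → F) :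
    Cfsg.hermForm n F q x y = ∑ i, x i * σ (y i) := by
  simp [Cfsg.hermForm, S.pow]

theorem Sq.unitary (S : Sq q σ) (n : ℕ) : Cfsg.Geo.IsUnitaryForm σ (Cfsg.hermForm n F q) := by
  obtain ⟨τ, hτ, hf⟩ := TransvMax.exists_herm_setting S.card n
  rwa [show σ = τ from RingEquiv.ext fun x => by rw [S.pow, hτ]]

omit [Fintype F] in
theorem mem_SL_iff {g : GL (Fin n) F} :
    g ∈ Cfsg.Geo.specialLinear (Fin n) F ↔ (g : Matrix (Fin n) (Fin n) F).det = 1 := by
  rw [Cfsg.Geo.specialLinear, MonoidHom.mem_ker, ← Units.val_eq_one]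
  rfl

omit [Fintype F] in
theorem iso_of_mem {g : GL (Fin n) F} (hg : g ∈ sU n q F) (x y : Fin n → F) :
    Cfsg.hermForm n F q ((g : Matrix (Fin n) (Fin n) F) *ᵥ x)
      ((g : Matrix (Fin n) (Fin n) F) *ᵥ y) = Cfsg.hermForm n F q x y :=
  hg.1 x y

theorem embGL_mem (S : Sq q σ) {m : ℕ} (s : Fin m ↪ Fin n) {g : GL (Fin m) F} (hg : g ∈ sU m q F) :
    embGL s g ∈ sU n q F := by
  refine ⟨TransvMax.mem_GU_iff.2 fun x y => ?_, mem_SL_iff.2 ?_⟩
  · rw [embGL_val, S.herm_apply, S.herm_apply]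
    have h1 := iso_of_mem hg (fun r => x (s r)) (fun r => y (s r))
    rw [S.herm_apply, S.herm_apply] at h1
    rw [sum_emb s _ _ (fun i => x i * σ (y i))
      (fun r => by rw [emb_mulVec_mem, emb_mulVec_mem])
      (fun i hi => by rw [emb_mulVec_notMem _ _ _ hi, emb_mulVec_notMem _ _ _ hi]), h1]
    exact (sum_emb s (fun i => x i * σ (y i)) (fun r => x (s r) * σ (y (s r))) _ (fun r => rfl)
      (fun i _ => rfl)).symm
  · rw [embGL_val, emb_det]
    exact mem_SL_iff.1 hg.2

/-- A diagonal element. -/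
noncomputable def dia (u : Fin n → F) (hu : ∀ i, u i ≠ 0) : GL (Fin n) F where
  val := Matrix.diagonal u
  inv := Matrix.diagonal fun i => (u i)⁻¹
  val_inv := by simp [Matrix.diagonal_mul_diagonal, hu]
  inv_val := by simp [Matrix.diagonal_mul_diagonal, hu]

omit [Fintype F] in
theorem dia_mulVec (u : Fin n → F) (hu : ∀ i, u i ≠ 0) (x : Fin n → F) :
    ((dia u hu : GL (Fin n) F) : Matrix (Fin n) (Fin n) F) *ᵥ x = fun j => u j * x j := by
  funext j
  exact Matrix.mulVec_diagonal u x j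

theorem dia_mem (S : Sq q σ) {u : Fin n → F} (hu : ∀ i, u i * σ (u i) = 1) (h1 : ∏ i, u i = 1) :
    dia u (fun i => Sq.unit_ne_zero (hu i)) ∈ sU n q F := by
  refine ⟨TransvMax.mem_GU_iff.2 fun x y => ?_, mem_SL_iff.2 (by
    show (Matrix.diagonal u).det = 1
    rw [Matrix.det_diagonal, h1])⟩
  show Cfsg.hermForm n F q (Matrix.diagonal u *ᵥ x) (Matrix.diagonal u *ᵥ y) = _
  rw [S.herm_apply, S.herm_apply]
  refine Finset.sum_congr rfl fun i _ => ?_
  rw [Matrix.mulVec_diagonal, Matrix.mulVec_diagonal, map_mul]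
  linear_combination (x i * σ (y i)) * hu i

/-- The monomial element sending the `j`th basis vector to `u j` times the `π j`th. -/
noncomputable def mon (π : Equiv.Perm (Fin n)) (u : Fin n → F) (hu : ∀ i, u i ≠ 0) : GL (Fin n) F :=
  TransvMax.glOf (LinearEquiv.funCongrLeft F F π.symm) * dia u hu

omit [Fintype F] in
theorem mon_mulVec (π : Equiv.Perm (Fin n)) (u : Fin n → F) (hu : ∀ i, u i ≠ 0) (x : Fin n → F) :
    (mon π u hu : Matrix (Fin n) (Fin n) F) *ᵥ x = fun i => u (π.symm i) * x (π.symm i) := by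
  rw [mon, Units.val_mul, ← Matrix.mulVec_mulVec, TransvMax.glOf_mulVec]
  funext i
  show ((Matrix.diagonal u) *ᵥ x) (π.symm i) = _
  rw [Matrix.mulVec_diagonal]

omit [Fintype F] in
theorem mon_det (π : Equiv.Perm (Fin n)) (u : Fin n → F) (hu : ∀ i, u i ≠ 0) :
    (mon π u hu : Matrix (Fin n) (Fin n) F).det =
      ((Equiv.Perm.sign π : ℤ) : F) * ∏ i, u i := by
  have h : (TransvMax.glOf (LinearEquiv.funCongrLeft F F π.symm) : Matrix (Fin n) (Fin n) F) =
      Equiv.Perm.permMatrix F π.symm := by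
    refine Matrix.ext_iff_mulVec.2 fun x => ?_
    rw [TransvMax.glOf_mulVec, Matrix.permMatrix_mulVec]
    rfl
  rw [mon, Units.val_mul, Matrix.det_mul, h, Matrix.det_permutation, Equiv.Perm.sign_symm]
  congr 1
  exact Matrix.det_diagonal

theorem mon_mem (S : Sq q σ) (π : Equiv.Perm (Fin n)) {u : Fin n → F} (hu : ∀ i, u i * σ (u i) = 1)
    (h1 : ((Equiv.Perm.sign π : ℤ) : F) * ∏ i, u i = 1) :
    mon π u (fun i => Sq.unit_ne_zero (hu i)) ∈ sU n q F := by
  refine ⟨TransvMax.mem_GU_iff.2 fun x y => ?_, mem_SL_iff.2 (by rw [mon_det, h1])⟩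
  rw [mon_mulVec, mon_mulVec, S.herm_apply, S.herm_apply,
    ← Equiv.sum_comp π.symm fun i => x i * σ (y i)]
  refine Finset.sum_congr rfl fun i _ => ?_
  rw [map_mul]
  linear_combination (x (π.symm i) * σ (y (π.symm i))) * hu (π.symm i)

/-- The pair `a, b` as an embedding. -/
def pairEmb (a b : Fin n) (hab : a ≠ b) : Fin 2 ↪ Fin n :=
  ⟨![a, b], fun i j h => by fin_cases i <;> fin_cases j <;> simp_all [eq_comm]⟩

@[simp]
theorem pairEmb_zero (a b : Fin n) (hab : a ≠ b) : pairEmb a b hab 0 = a := rfl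

@[simp]
theorem pairEmb_one (a b : Fin n) (hab : a ≠ b) : pairEmb a b hab 1 = b := rfl

/-- A rotation in two coordinates. -/
theorem exists_rot (S : Sq q σ) {A B : F} (hAB : A * σ A + B * σ B = 1) :
    ∃ g : GL (Fin 2) F, g ∈ sU 2 q F ∧
      (g : Matrix (Fin 2) (Fin 2) F) = !![A, B; -σ B, σ A] := by
  have hd : (!![A, B; -σ B, σ A] : Matrix (Fin 2) (Fin 2) F).det = 1 := by
    rw [Matrix.det_fin_two_of]
    linear_combination hAB
  refine ⟨Matrix.GeneralLinearGroup.mkOfDetNeZero _ (by rw [hd]; exact one_ne_zero),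
    ⟨TransvMax.mem_GU_iff.2 fun x y => ?_, mem_SL_iff.2 hd⟩, rfl⟩
  show Cfsg.hermForm 2 F q ((!![A, B; -σ B, σ A] : Matrix (Fin 2) (Fin 2) F) *ᵥ x)
    ((!![A, B; -σ B, σ A] : Matrix (Fin 2) (Fin 2) F) *ᵥ y) = _
  rw [S.herm_apply, S.herm_apply, Fin.sum_univ_two, Fin.sum_univ_two]
  simp only [Matrix.mulVec, dotProduct, Fin.sum_univ_two, Matrix.of_apply, Matrix.cons_val_zero,
    Matrix.cons_val_one, map_add, map_mul, map_neg, S.invol]
  linear_combination (x 0 * σ (y 0) + x 1 * σ (y 1)) * hAB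

end Elements

section Over

variable [Fintype F] {n q t : ℕ} {σ : F ≃+* F}

/-- The element maps each block of coordinates into one block. -/
def BlockPerm (blk : Fin n → Fin t) (g : GL (Fin n) F) : Prop :=
  ∃ τ : Equiv.Perm (Fin t), ∀ i j, (g : Matrix (Fin n) (Fin n) F) i j ≠ 0 → blk i = τ (blk j)

/-- An overgroup of the stabiliser of a decomposition into blocks of coordinates. -/
structure Over (q : ℕ) (σ : F ≃+* F) (blk : Fin n → Fin t) (K : Subgroup (GL (Fin n) F)) :
    Prop where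
  sq : Sq q σ
  dim : 13 ≤ n
  size : ∃ k, 0 < k ∧ ∀ a, (Finset.univ.filter fun i => blk i = a).card = k
  le : K ≤ sU n q F
  stab : ∀ g ∈ sU n q F, BlockPerm blk g → g ∈ K

variable {blk : Fin n → Fin t} {K : Subgroup (GL (Fin n) F)}

/-- All transvections with this centre lie in the group. -/
def Over.Cen (O : Over q σ blk K) (u : Fin n → F) : Prop :=
  TransvMax.IsoCentre (O.sq.unitary n) K u

namespace Over

variable (O : Over q σ blk K)

include O

theorem blk_surj : Function.Surjective blk := fun a => by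
  obtain ⟨k, hk, h⟩ := O.size
  obtain ⟨i, hi⟩ := Finset.card_pos.1 (lt_of_lt_of_eq hk (h a).symm)
  exact ⟨i, (Finset.mem_filter.1 hi).2⟩

theorem dia_mem {u : Fin n → F} (hu : ∀ i, u i * σ (u i) = 1) (h1 : ∏ i, u i = 1) :
    dia u (fun i => Sq.unit_ne_zero (hu i)) ∈ K := by
  refine O.stab _ (UFrame.dia_mem O.sq hu h1) ⟨1, fun i j h => ?_⟩
  by_contra hne
  exact h (Matrix.diagonal_apply_ne _ fun e => hne (by subst e; rfl))

theorem mon_mem {π : Equiv.Perm (Fin n)} (hπ : ∀ i j, blk i = blk j ↔ blk (π i) = blk (π j))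
    {u : Fin n → F} (hu : ∀ i, u i * σ (u i) = 1)
    (h1 : ((Equiv.Perm.sign π : ℤ) : F) * ∏ i, u i = 1) :
    mon π u (fun i => Sq.unit_ne_zero (hu i)) ∈ K := by
  refine O.stab _ (UFrame.mon_mem O.sq π hu h1) ?_
  choose sec hsec using O.blk_surj
  refine ⟨Equiv.ofBijective (fun a => blk (π (sec a))) (Finite.injective_iff_bijective.1 fun a b h => by
    rw [← hsec a, ← hsec b, hπ]; exact h), fun i j h => ?_⟩
  have h2 : ((mon π u fun i => Sq.unit_ne_zero (hu i) : GL (Fin n) F) : Matrix (Fin n) (Fin n) F) *ᵥ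
      Pi.single j 1 = fun i => u (π.symm i) * (Pi.single j 1 : Fin n → F) (π.symm i) :=
    mon_mulVec _ _ _ _
  rw [Matrix.mulVec_single_one] at h2
  have h3 : π.symm i = j := by
    by_contra hne
    refine h ?_
    have := congrFun h2 i
    simpa [Pi.single_eq_of_ne hne] using this
  show blk i = blk (π (sec (blk j)))
  rw [show i = π j from (Equiv.symm_apply_eq π).1 h3]
  exact (hπ _ _).1 (hsec (blk j)).symm

theorem cen_mem {u : Fin n → F} (hu : Cfsg.hermForm n F q u u = 0)
    (hblk : ∀ i j, u i ≠ 0 → u j ≠ 0 → blk i = blk j) : O.Cen u := by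
  refine ⟨hu, fun e he => O.stab _ (TransvMax.utrv_mem_guSL _ hu he) ⟨1, fun i j h => ?_⟩⟩
  by_contra hne
  refine h ?_
  have h1 : (TransvMax.utrv (O.sq.unitary n) hu e : Matrix (Fin n) (Fin n) F) *ᵥ Pi.single j 1 =
      Pi.single j 1 + (e * Cfsg.hermForm n F q (Pi.single j 1) u) • u :=
    TransvMax.utrv_mulVec _ hu e _
  rw [Matrix.mulVec_single_one] at h1
  have h2 := congrFun h1 i
  rw [Pi.add_apply, Pi.smul_apply, Pi.single_eq_of_ne (fun e => hne (by subst e; rfl)), zero_add,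
    O.sq.herm_apply, Finset.sum_eq_single j (fun l _ hl => by simp [Pi.single_eq_of_ne hl]) (by simp),
    Pi.single_eq_same, one_mul, smul_eq_mul] at h2
  rw [show (TransvMax.utrv (O.sq.unitary n) hu e : Matrix (Fin n) (Fin n) F).col j i =
    (TransvMax.utrv (O.sq.unitary n) hu e : Matrix (Fin n) (Fin n) F) i j from rfl] at h2
  rw [h2]
  by_cases hi : u i = 0
  · simp [hi]
  · have hj : u j = 0 := by
      by_contra hj
      exact hne (hblk i j hi hj)
    simp [hj]

theorem rot_mem {a b : Fin n} (hab : a ≠ b) (hblk : blk a = blk b) {A B : F}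
    (hAB : A * σ A + B * σ B = 1) :
    ∃ g ∈ K, ∀ x : Fin n → F, ((g : Matrix (Fin n) (Fin n) F) *ᵥ x) a = A * x a + B * x b ∧
      ((g : Matrix (Fin n) (Fin n) F) *ᵥ x) b = -σ B * x a + σ A * x b ∧
      ∀ i, i ≠ a → i ≠ b → ((g : Matrix (Fin n) (Fin n) F) *ᵥ x) i = x i := by
  obtain ⟨g, hg, hgm⟩ := exists_rot O.sq hAB
  refine ⟨embGL (pairEmb a b hab) g, O.stab _ (embGL_mem O.sq _ hg) ⟨1, fun i j h => ?_⟩, fun x => ?_⟩
  · by_contra hne
    refine h ?_
    have h1 : (embGL (pairEmb a b hab) g : Matrix (Fin n) (Fin n) F) i j =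
        ((embGL (pairEmb a b hab) g : Matrix (Fin n) (Fin n) F) *ᵥ Pi.single j 1) i := by
      rw [Matrix.mulVec_single_one]; rfl
    rw [h1, embGL_val]
    have hij : i ≠ j := fun e => hne (by subst e; rfl)
    by_cases hi : ∀ r, i ≠ pairEmb a b hab r
    · rw [emb_mulVec_notMem _ _ _ hi, Pi.single_eq_of_ne hij]
    push Not at hi
    obtain ⟨r, rfl⟩ := hi
    rw [emb_mulVec_mem]
    have hr : ∀ r' : Fin 2, blk (pairEmb a b hab r') = blk a := fun r' => by
      fin_cases r'
      · rfl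
      · exact hblk.symm
    have hz : ∀ r' : Fin 2, (Pi.single j (1 : F) : Fin n → F) (pairEmb a b hab r') = 0 := fun r' =>
      Pi.single_eq_of_ne (fun e => hne (by rw [← e, hr, hr]; rfl)) _
    rw [show (fun r' => (Pi.single j (1 : F) : Fin n → F) (pairEmb a b hab r')) = 0 from funext hz,
      Matrix.mulVec_zero, Pi.zero_apply]
  · rw [embGL_val, hgm]
    refine ⟨?_, ?_, fun i hia hib => emb_mulVec_notMem _ _ _ fun r => ?_⟩
    · have := emb_mulVec_mem (pairEmb a b hab) !![A, B; -σ B, σ A] x 0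
      simpa [Matrix.mulVec, dotProduct, Fin.sum_univ_two] using this
    · have := emb_mulVec_mem (pairEmb a b hab) !![A, B; -σ B, σ A] x 1
      simpa [Matrix.mulVec, dotProduct, Fin.sum_univ_two] using this
    · fin_cases r
      · exact hia
      · exact hib

theorem cen_map {u : Fin n → F} (h : O.Cen u) {g : GL (Fin n) F} (hg : g ∈ K) :
    O.Cen ((g : Matrix (Fin n) (Fin n) F) *ᵥ u) :=
  TransvMax.IsoCentre.map h hg (iso_of_mem (O.le hg))

theorem cen_iso {u : Fin n → F} (h : O.Cen u) : ∑ i, u i * σ (u i) = 0 := by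
  rw [← O.sq.herm_apply]
  exact h.1

end Over

end Over

end Cfsg.Agent.UFrame
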