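import Cfsg.Agent.Lib.TransvMax.UnitaryGen

/-!
Sums of elements of norm one in a field with `q²` elements.
-/

set_option autoImplicit false

namespace Cfsg.Agent.UFrame

open Cfsg.Agent

variable {F : Type*} [Field F] [Fintype F] {q : ℕ} {σ : F ≃+* F}

/-- The field with `q²` elements and its involution. -/
structure Sq (q : ℕ) (σ : F ≃+* F) : Prop where
  card : Fintype.card F = q ^ 2
  pow : ∀ x, σ x = x ^ q
  invol : ∀ x, σ (σ x) = x
  ne_refl : σ ≠ RingEquiv.refl F

namespace Sq

variable (S : Sq q σ)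

include S

theorem two_le : 2 ≤ q := by
  have h := S.card
  have h2 := Fintype.one_lt_card (α := F)
  rcases q with _ | _ | q <;> (simp at *; try omega)

theorem exists_gen : ∃ g : F, g * σ g = 1 ∧ ∀ k, 0 < k → k ≤ q → g ^ k ≠ 1 := by
  classical
  have h2 := S.two_le
  obtain ⟨w, hw⟩ := IsCyclic.exists_generator (α := Fˣ)
  have hcard : Fintype.card Fˣ = (q + 1) * (q - 1) := by
    rw [Fintype.card_units, S.card]
    obtain ⟨r, rfl⟩ : ∃ r, q = r + 1 := ⟨q - 1, by omega⟩
    simp only [Nat.add_sub_cancel]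
    have : (r + 1) ^ 2 = (r + 1 + 1) * r + 1 := by ring
    omega
  have hord : orderOf w = (q + 1) * (q - 1) := by
    rw [orderOf_eq_card_of_forall_mem_zpowers hw, Nat.card_eq_fintype_card, hcard]
  have h1 : 0 < q - 1 := by omega
  refine ⟨(w : F) ^ (q - 1), ?_, fun k hk hkq e => ?_⟩
  · have e : w ^ ((q + 1) * (q - 1)) = 1 := hord ▸ pow_orderOf_eq_one w
    rw [S.pow, ← pow_succ', ← pow_mul, mul_comm (q - 1), ← Units.val_pow_eq_pow_val, e, Units.val_one]
  · rw [← pow_mul, ← Units.val_pow_eq_pow_val, Units.val_eq_one] at e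
    have h3 := orderOf_dvd_of_pow_eq_one e
    rw [hord, mul_comm (q - 1), Nat.mul_dvd_mul_iff_right h1] at h3
    exact absurd (Nat.le_of_dvd hk h3) (by omega)

omit S in
/-- The elements of norm one. -/
noncomputable def circ (σ : F ≃+* F) : Finset F := by
  classical exact Finset.univ.filter fun u => u * σ u = 1

omit S in
@[simp]
theorem mem_circ {u : F} : u ∈ circ σ ↔ u * σ u = 1 := by simp [circ]

omit S [Fintype F] in
theorem unit_ne_zero {u : F} (hu : u * σ u = 1) : u ≠ 0 := fun e => by simp [e] at hu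

omit S [Fintype F] in
theorem unit_inv {u : F} (hu : u * σ u = 1) : σ u = u⁻¹ := eq_inv_of_mul_eq_one_right hu

omit S [Fintype F] in
theorem unit_mul {u v : F} (hu : u * σ u = 1) (hv : v * σ v = 1) : u * v * σ (u * v) = 1 := by
  rw [map_mul]
  linear_combination (v * σ v) * hu + hv

omit S [Fintype F] in
theorem unit_pow {u : F} (hu : u * σ u = 1) (k : ℕ) : u ^ k * σ (u ^ k) = 1 := by
  rw [map_pow, ← mul_pow, hu, one_pow]

theorem unit_conj {u : F} (hu : u * σ u = 1) : σ u * σ (σ u) = 1 := by rw [S.invol, mul_comm, hu]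

omit S [Fintype F] in
theorem unit_inv' {u : F} (hu : u * σ u = 1) : u⁻¹ * σ u⁻¹ = 1 := by
  rw [map_inv₀, ← mul_inv, hu, inv_one]

omit S [Fintype F] in
theorem unit_prod {ι : Type*} (s : Finset ι) {u : ι → F} (hu : ∀ i ∈ s, u i * σ (u i) = 1) :
    (∏ i ∈ s, u i) * σ (∏ i ∈ s, u i) = 1 := by
  rw [map_prod, ← Finset.prod_mul_distrib]
  exact Finset.prod_eq_one hu

theorem card_circ : q + 1 ≤ (circ σ).card := by
  classical
  obtain ⟨g, hg, hgk⟩ := S.exists_gen
  have hg0 := unit_ne_zero hg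
  calc q + 1 = ((Finset.range (q + 1)).image fun k => g ^ k).card := by
        rw [Finset.card_image_of_injOn, Finset.card_range]
        intro a ha b hb hab
        simp only [Finset.coe_range, Set.mem_Iio] at ha hb
        by_contra hne
        rcases Nat.lt_or_gt_of_ne hne with h | h
        · refine hgk (b - a) (by omega) (by omega) ?_
          rw [pow_sub₀ _ hg0 h.le, ← show g ^ a = g ^ b from hab, mul_inv_cancel₀ (pow_ne_zero _ hg0)]
        · refine hgk (a - b) (by omega) (by omega) ?_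
          rw [pow_sub₀ _ hg0 h.le, show g ^ a = g ^ b from hab, mul_inv_cancel₀ (pow_ne_zero _ hg0)]
    _ ≤ _ := Finset.card_le_card fun x hx => by
        simp only [Finset.mem_image] at hx
        obtain ⟨k, -, rfl⟩ := hx
        exact mem_circ.2 (unit_pow hg k)

theorem card_fixed (s : Finset F) (hs : ∀ x ∈ s, σ x = x) : s.card ≤ q := by
  classical
  have h2 := S.two_le
  have h := Polynomial.card_le_degree_of_subset_roots (p := (Polynomial.X ^ q - Polynomial.X : Polynomial F))
    (Z := s) (fun x hx => by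
      rw [Polynomial.mem_roots (FiniteField.X_pow_card_sub_X_ne_zero F (by omega))]
      simp [← S.pow, hs x hx])
  rwa [FiniteField.X_pow_card_sub_X_natDegree_eq F (by omega)] at h

omit S [Fintype F] in
theorem card_quadratic (s : Finset F) {a b c : F} (ha : a ≠ 0)
    (hs : ∀ x ∈ s, a * x ^ 2 + b * x + c = 0) : s.card ≤ 2 := by
  classical
  let p : Polynomial F := Polynomial.C a * Polynomial.X ^ 2 + Polynomial.C b * Polynomial.X + Polynomial.C c
  have hd : p.natDegree = 2 := Polynomial.natDegree_quadratic ha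
  have hp : p ≠ 0 := fun e => by simp [e] at hd
  rw [← hd]
  refine Polynomial.card_le_degree_of_subset_roots fun x hx => ?_
  rw [Polynomial.mem_roots hp]
  simp [p, hs x hx]

/-- Many sums of two multiples of elements of norm one. -/
theorem card_pair {a b : F} (ha : a ≠ 0) (hb : b ≠ 0) :
    ∃ A : Finset F, (∀ z ∈ A, ∃ u v, u * σ u = 1 ∧ v * σ v = 1 ∧ a * u + b * v = z) ∧
      Fintype.card F < 2 * A.card := by
  classical
  set U := circ σ
  set A := (U ×ˢ U).image fun p => a * p.1 + b * p.2 with hA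
  refine ⟨A, fun z hz => ?_, ?_⟩
  · simp only [hA, Finset.mem_image, Finset.mem_product, U, mem_circ] at hz
    obtain ⟨⟨u, v⟩, ⟨hu, hv⟩, rfl⟩ := hz
    exact ⟨u, v, hu, hv, rfl⟩
  have hN : q + 1 ≤ U.card := S.card_circ
  have h0 : ((U ×ˢ U).filter fun p => a * p.1 + b * p.2 = 0).card ≤ U.card := by
    refine Finset.card_le_card_of_injOn Prod.fst (fun p hp => ?_) (fun p hp p' hp' h => ?_)
    · simp only [Finset.coe_filter, Set.mem_ofPred_eq, Finset.mem_product] at hp
      exact hp.1.1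
    · simp only [Finset.coe_filter, Set.mem_ofPred_eq, Finset.mem_product] at hp hp'
      refine Prod.ext h (mul_left_cancel₀ hb ?_)
      have := hp'.2
      rw [← h] at this
      linear_combination hp.2 - this
  have hfib : ∀ z, z ≠ 0 → ((U ×ˢ U).filter fun p => a * p.1 + b * p.2 = z).card ≤ 2 := by
    intro z hz
    refine le_trans ?_ (card_quadratic (F := F)
      (U.filter fun u => a * σ z * u ^ 2 + (b * σ b - a * σ a - z * σ z) * u + z * σ a = 0)
      (mul_ne_zero ha ((map_ne_zero σ).2 hz)) fun x hx => (Finset.mem_filter.1 hx).2)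
    refine Finset.card_le_card_of_injOn Prod.fst (fun p hp => ?_) (fun p hp p' hp' h => ?_)
    · simp only [Finset.coe_filter, Set.mem_ofPred_eq, Finset.mem_product, U, mem_circ] at hp ⊢
      obtain ⟨⟨hu, hv⟩, he⟩ := hp
      refine ⟨hu, ?_⟩
      have hbv : b * p.2 * σ (b * p.2) = b * σ b := by
        rw [map_mul]; linear_combination (b * σ b) * hv
      rw [show b * p.2 = z - a * p.1 by linear_combination he, map_sub, map_mul] at hbv
      linear_combination -p.1 * hbv + (a * σ a * p.1 - z * σ a) * hu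
    · simp only [Finset.coe_filter, Set.mem_ofPred_eq, Finset.mem_product] at hp hp'
      refine Prod.ext h (mul_left_cancel₀ hb ?_)
      have := hp'.2
      rw [← h] at this
      linear_combination hp.2 - this
  have hsum := Finset.card_eq_sum_card_image (fun p : F × F => a * p.1 + b * p.2) (U ×ˢ U)
  rw [← hA, Finset.card_product] at hsum
  have hle : ∑ z ∈ A, ((U ×ˢ U).filter fun p => a * p.1 + b * p.2 = z).card + 2 ≤
      2 * A.card + U.card := by
    by_cases h : (0 : F) ∈ A
    · rw [← Finset.add_sum_erase _ _ h]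
      have h1 := Finset.sum_le_card_nsmul (A.erase 0)
        (fun z => ((U ×ˢ U).filter fun p => a * p.1 + b * p.2 = z).card) 2
        fun z hz => hfib z (Finset.ne_of_mem_erase hz)
      rw [Finset.card_erase_of_mem h, smul_eq_mul] at h1
      have h2 : 0 < A.card := Finset.card_pos.2 ⟨_, h⟩
      omega
    · have h1 := Finset.sum_le_card_nsmul A
        (fun z => ((U ×ˢ U).filter fun p => a * p.1 + b * p.2 = z).card) 2
        fun z hz => hfib z fun e => h (e ▸ hz)
      rw [smul_eq_mul] at h1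
      have h2 := S.two_le
      omega
  rw [← hsum] at hle
  rw [S.card]
  have h3 : (q + 1) * (U.card - 1) ≤ U.card * (U.card - 1) := Nat.mul_le_mul_right _ hN
  obtain ⟨r, hr⟩ : ∃ r, U.card = r + 1 := ⟨U.card - 1, by omega⟩
  rw [hr] at hle h3 hN
  simp only [Nat.add_sub_cancel] at h3
  nlinarith

/-- Every element is a combination of four elements of norm one with given non-zero coefficients. -/
theorem exists_four {a b c d : F} (ha : a ≠ 0) (hb : b ≠ 0) (hc : c ≠ 0) (hd : d ≠ 0) (z : F) :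
    ∃ u v u' v' : F, u * σ u = 1 ∧ v * σ v = 1 ∧ u' * σ u' = 1 ∧ v' * σ v' = 1 ∧
      a * u + b * v + c * u' + d * v' = z := by
  classical
  obtain ⟨A, hA, hA'⟩ := S.card_pair ha hb
  obtain ⟨B, hB, hB'⟩ := S.card_pair hc hd
  have hB2 : (B.image fun y => z - y).card = B.card :=
    Finset.card_image_of_injective _ sub_right_injective
  obtain ⟨x, hx, hxB⟩ : ∃ x ∈ A, x ∈ B.image fun y => z - y := by
    by_contra hc
    push Not at hc
    have h1 := Finset.card_union_of_disjoint (Finset.disjoint_left.2 hc)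
    have h2 := Finset.card_le_univ (A ∪ B.image fun y => z - y)
    omega
  obtain ⟨y, hy, rfl⟩ := Finset.mem_image.1 hxB
  obtain ⟨u, v, hu, hv, h1⟩ := hA _ hx
  obtain ⟨u', v', hu', hv', h2⟩ := hB _ hy
  exact ⟨u, v, u', v', hu, hv, hu', hv', by linear_combination h1 + h2⟩

/-- Combinations over a finite set with at least four elements. -/
theorem exists_sum {ι : Type*} [DecidableEq ι] (s : Finset ι) (a : ι → F) (ha : ∀ i ∈ s, a i ≠ 0)
    (hs : 4 ≤ s.card) (z : F) :
    ∃ u : ι → F, (∀ i, u i * σ (u i) = 1) ∧ (∀ i, i ∉ s → u i = 1) ∧ ∑ i ∈ s, a i * u i = z := by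
  obtain ⟨t, ht, htc⟩ := Finset.exists_subset_card_eq hs
  obtain ⟨i, r, hir, rfl, hr⟩ := Finset.card_eq_succ.1 htc
  obtain ⟨j, k, l, hjk, hjl, hkl, rfl⟩ := Finset.card_eq_three.1 hr
  simp only [Finset.mem_insert, Finset.mem_singleton, not_or] at hir
  have hi : i ∈ s := ht (by simp)
  have hj : j ∈ s := ht (by simp)
  have hk : k ∈ s := ht (by simp)
  have hl : l ∈ s := ht (by simp)
  obtain ⟨u, v, u', v', hu, hv, hu', hv', h⟩ := S.exists_four (ha i hi) (ha j hj) (ha k hk) (ha l hl)
    (z - ∑ x ∈ s \ {i, j, k, l}, a x)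
  refine ⟨fun x => if x = i then u else if x = j then v else if x = k then u' else if x = l then v'
    else 1, fun x => ?_, fun x hx => ?_, ?_⟩
  · dsimp only
    split_ifs <;> simp [*]
  · dsimp only
    rw [if_neg (by rintro rfl; exact hx hi), if_neg (by rintro rfl; exact hx hj),
      if_neg (by rintro rfl; exact hx hk), if_neg (by rintro rfl; exact hx hl)]
  · rw [← Finset.sum_sdiff ht, Finset.sum_congr rfl (fun x hx => by
      simp only [Finset.mem_sdiff, Finset.mem_insert, Finset.mem_singleton, not_or] at hx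
      dsimp only
      rw [if_neg hx.2.1, if_neg hx.2.2.1, if_neg hx.2.2.2.1, if_neg hx.2.2.2.2, mul_one]
        : ∀ x ∈ s \ {i, j, k, l}, _ = a x)]
    rw [Finset.sum_insert (by simp [hir]), Finset.sum_insert (by simp [hjk, hjl]), Finset.sum_insert
      (by simp [hkl]), Finset.sum_singleton]
    simp only [↓reduceIte, hjk.symm, hjl.symm, hkl.symm, Ne.symm hir.1, Ne.symm hir.2.1,
      Ne.symm hir.2.2]
    linear_combination h

omit S [Fintype F] in
/-- The value `N(u - 1)` of an element of norm one. -/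
theorem norm_sub_one {u : F} (hu : u * σ u = 1) : (u - 1) * σ (u - 1) = 2 - u - σ u := by
  rw [map_sub, map_one]
  linear_combination hu

/-- Two elements of norm one whose distances from `1` have prescribed ratio. -/
theorem exists_pair_dist {A B : F} (hA : A ≠ 0) (hB : B ≠ 0) (hA' : σ A = A) (hB' : σ B = B) :
    ∃ u v : F, u * σ u = 1 ∧ v * σ v = 1 ∧ u ≠ 1 ∧ v ≠ 1 ∧
      A * (2 - u - σ u) + B * (2 - v - σ v) = 0 := by
  classical
  have key : ∀ C : F, C ≠ 0 → σ C = C →
      ∃ T : Finset F, q ≤ 2 * T.card ∧ ∀ z ∈ T, z ≠ 0 ∧ σ z = z ∧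
        ∃ u, u * σ u = 1 ∧ u ≠ 1 ∧ C * (2 - u - σ u) = z := by
    intro C hC hC'
    refine ⟨((circ σ).erase 1).image fun u => C * (2 - u - σ u), ?_, fun z hz => ?_⟩
    · have h1 : ((circ σ).erase 1).card ≤ 2 * (((circ σ).erase 1).image fun u => C * (2 - u - σ u)).card :=
        Finset.card_le_mul_card_image _ 2 fun z _ => by
          refine card_quadratic (F := F) _ (a := C) (b := z - 2 * C) (c := C) hC fun x hx => ?_
          simp only [Finset.mem_filter, Finset.mem_erase, mem_circ] at hx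
          linear_combination -x * hx.2 - C * hx.1.2
      have h2 : (circ σ).card ≤ ((circ σ).erase 1).card + 1 := by
        have := Finset.pred_card_le_card_erase (s := circ σ) (a := 1)
        omega
      have := S.card_circ
      omega
    · simp only [Finset.mem_image, Finset.mem_erase, mem_circ] at hz
      obtain ⟨u, ⟨hu1, hu⟩, rfl⟩ := hz
      refine ⟨mul_ne_zero hC ?_, ?_, u, hu, hu1, rfl⟩
      · rw [← norm_sub_one hu]
        exact mul_ne_zero (sub_ne_zero.2 hu1) ((map_ne_zero σ).2 (sub_ne_zero.2 hu1))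
      · simp only [map_mul, map_sub, map_ofNat, hC', S.invol]
        ring
  obtain ⟨T, hT, hTp⟩ := key A hA hA'
  obtain ⟨T', hT', hTp'⟩ := key (-B) (neg_ne_zero.2 hB) (by rw [map_neg, hB'])
  obtain ⟨z, hz, hz'⟩ : ∃ z ∈ T, z ∈ T' := by
    by_contra hc
    push Not at hc
    have h1 := Finset.card_union_of_disjoint (Finset.disjoint_left.2 hc)
    have h2 := S.card_fixed (insert 0 (T ∪ T')) fun x hx => by
      simp only [Finset.mem_insert, Finset.mem_union] at hx
      rcases hx with rfl | hx | hx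
      · exact map_zero σ
      · exact (hTp x hx).2.1
      · exact (hTp' x hx).2.1
    rw [Finset.card_insert_of_notMem (by
      simp only [Finset.mem_union]
      rintro (h | h)
      · exact (hTp 0 h).1 rfl
      · exact (hTp' 0 h).1 rfl)] at h2
    omega
  obtain ⟨-, -, u, hu, hu1, e⟩ := hTp z hz
  obtain ⟨-, -, v, hv, hv1, e'⟩ := hTp' z hz'
  exact ⟨u, v, hu, hv, hu1, hv1, by linear_combination e - e'⟩

/-- Some element of norm one differs from its conjugate. -/
theorem exists_nonreal : ∃ u : F, u * σ u = 1 ∧ σ u ≠ u := by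
  obtain ⟨g, hg, hgk⟩ := S.exists_gen
  refine ⟨g, hg, fun e => hgk 2 (by norm_num) S.two_le ?_⟩
  rw [e] at hg
  rw [pow_two, hg]

/-- An element of norm one whose powers in small exponents avoid `-1`. -/
theorem exists_delta (h3 : 3 ≤ q) :
    ∃ δ : F, δ * σ δ = 1 ∧ δ ≠ 1 ∧
      ((2 : F) = 0 ∨ (δ ^ 4 ≠ -1 ∧ δ ^ 5 ≠ -1 ∧ δ ^ 9 ≠ -1)) := by
  obtain ⟨g, hg, hgk⟩ := S.exists_gen
  by_cases h2 : (2 : F) = 0
  · exact ⟨g, hg, fun e => hgk 1 (by norm_num) (by omega) (by rw [e, one_pow]), Or.inl h2⟩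
  have hg1 : g ^ (q + 1) = 1 := by rw [pow_succ', ← S.pow, hg]
  have hodd : ∀ m : ℕ, Odd m → ∀ δ : F, δ ^ m = 1 → ∀ a, δ ^ a ≠ -1 := by
    intro m hm δ hδ a ha
    have e : (δ ^ a) ^ m = 1 := by rw [← pow_mul, mul_comm, pow_mul, hδ, one_pow]
    rw [ha, hm.neg_one_pow] at e
    exact h2 (by linear_combination -e)
  obtain ⟨s, m, hm, hsm⟩ := Nat.exists_eq_two_pow_mul_odd (n := q + 1) (by omega)
  by_cases hm1 : m = 1
  · subst hm1
    rw [mul_one] at hsm
    have hs : 2 ≤ s := by
      by_contra hc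
      have : 2 ^ s ≤ 2 ^ 1 := Nat.pow_le_pow_right (by norm_num) (by omega)
      omega
    obtain ⟨r, hr⟩ : ∃ r, s = r + 2 := ⟨s - 2, by omega⟩
    subst hr
    have hr0 : 0 < 2 ^ r := Nat.two_pow_pos r
    have h4 : q + 1 = 2 ^ r * 4 := by rw [hsm, pow_add]; rfl
    set δ := g ^ 2 ^ r with hδ
    have hd4 : δ ^ 4 = 1 := by rw [hδ, ← pow_mul, ← h4, hg1]
    have hd2 : δ ^ 2 ≠ 1 := by
      rw [hδ, ← pow_mul]
      exact hgk _ (by omega) (by omega)
    have hne : δ ≠ 1 := fun e => hd2 (by rw [e, one_pow])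
    have hne' : δ ≠ -1 := fun e => hd2 (by rw [e]; norm_num)
    refine ⟨δ, unit_pow hg _, hne, Or.inr ⟨?_, ?_, ?_⟩⟩
    · rw [hd4]
      exact fun e => h2 (by linear_combination e)
    · rw [pow_succ, hd4, one_mul]
      exact hne'
    · rw [show δ ^ 9 = (δ ^ 4) ^ 2 * δ by ring, hd4, one_pow, one_mul]
      exact hne'
  · have hm0 : 0 < m := hm.pos
    have hs0 : 2 ^ s ≤ q := by
      have : 2 ^ s * 2 ≤ 2 ^ s * m := Nat.mul_le_mul_left _ (by omega)
      omega
    refine ⟨g ^ 2 ^ s, unit_pow hg _, hgk _ (Nat.two_pow_pos s) hs0, Or.inr ?_⟩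
    have e : (g ^ 2 ^ s) ^ m = 1 := by rw [← pow_mul, ← hsm, hg1]
    exact ⟨hodd m hm _ e 4, hodd m hm _ e 5, hodd m hm _ e 9⟩

end Sq

end Cfsg.Agent.UFrame
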