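import Cfsg.Agent.Lib.TransvMax.UFrame.Main
import Cfsg.Agent.Lib.Forms.Orthonormal

/-!
A non-degenerate orthogonal decomposition in orthonormal coordinates.
-/

set_option autoImplicit false

namespace Cfsg.Agent.UFrame

open scoped Matrix MatrixGroups
open Cfsg.Agent

variable {F : Type*} [Field F] [Fintype F] {n q t k : ℕ} {σ : F ≃+* F}
  {D : Fin t → Submodule F (Fin n → F)}

/-- An orthonormal basis adapted to the decomposition. -/
theorem exists_frame (S : Sq q σ)
    (hD : Cfsg.Geo.IsNondegenerateMDecomposition (Cfsg.hermForm n F q) k D) :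
    ∃ (blk : Fin n → Fin t) (P : GL (Fin n) F), P ∈ Cfsg.GU n F q ∧
      (∀ a, (Finset.univ.filter fun i => blk i = a).card = k) ∧
      ∀ a (x : Fin n → F), (P : Matrix (Fin n) (Fin n) F) *ᵥ x ∈ D a ↔ ∀ i, x i ≠ 0 → blk i = a := by
  classical
  have hf := S.unitary n
  have hσ : (σ.toRingHom : F →+* F) ≠ RingHom.id F := fun e =>
    hf.ne_refl (RingEquiv.ext fun x => DFunLike.congr_fun e x)
  have hb : ∀ a, ∃ b : Module.Basis (Fin k) F (D a), ∀ i j,
      Cfsg.hermForm n F q (b i : Fin n → F) (b j : Fin n → F) = if i = j then 1 else 0 := by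
    intro a
    let B : (D a) →ₛₗ[σ.toRingHom] (D a) →ₗ[F] F := LinearMap.mk₂'ₛₗ σ.toRingHom (RingHom.id F)
      (fun u v => Cfsg.hermForm n F q (v : Fin n → F) (u : Fin n → F))
      (fun u u' v => by simp [TransvMax.herm_add_right hf])
      (fun c u v => by simp [TransvMax.herm_smul_right hf])
      (fun u v v' => by simp [hf.add_left])
      (fun c u v => by simp [hf.smul_left])
    have hS : B.IsSymm := ⟨fun u v => (hf.herm (u : Fin n → F) (v : Fin n → F)).symm⟩
    have hN : B.Nondegenerate := by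
      constructor
      · intro u hu
        by_contra h0
        obtain ⟨x, hx, hxu⟩ := (hD.nondegenerate a u u.2 fun e => h0 (Subtype.ext e)).1
        exact hxu (hu ⟨x, hx⟩)
      · intro v hv
        by_contra h0
        obtain ⟨x, hx, hxv⟩ := (hD.nondegenerate a v v.2 fun e => h0 (Subtype.ext e)).2
        exact hxv (hv ⟨x, hx⟩)
    obtain ⟨b, hb⟩ := FormModel.exists_orthonormal σ.toRingHom hσ S.invol B hS hN
    refine ⟨b.reindex (finCongr (hD.decomp.finrank_eq a)), fun i j => ?_⟩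
    rw [Module.Basis.reindex_apply, Module.Basis.reindex_apply]
    have h := hb ((finCongr (hD.decomp.finrank_eq a)).symm j) ((finCongr (hD.decomp.finrank_eq a)).symm i)
    simp only [(finCongr (hD.decomp.finrank_eq a)).symm.injective.eq_iff] at h
    rw [show (if i = j then (1 : F) else 0) = if j = i then 1 else 0 by simp [eq_comm]]
    exact h
  choose b hb using hb
  have hint : DirectSum.IsInternal D :=
    DirectSum.isInternal_submodule_of_iSupIndep_of_iSup_eq_top hD.decomp.indep hD.decomp.iSup_eq_top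
  let bb := hint.collectedBasis b
  have hbb : ∀ p, bb p = (b p.1 p.2 : Fin n → F) := fun p => by
    rw [DirectSum.IsInternal.collectedBasis_coe]
  have hbbo : ∀ p p', Cfsg.hermForm n F q (bb p) (bb p') = if p = p' then 1 else 0 := by
    rintro ⟨a, i⟩ ⟨a', i'⟩
    rw [hbb, hbb]
    by_cases h : a = a'
    · subst h
      rw [hb]
      by_cases h' : i = i'
      · subst h'; simp
      · simp [h']
    · rw [hD.orthogonal a a' h _ (b a i).2 _ (b a' i').2, if_neg (fun e => h (congrArg Sigma.fst e))]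
  let e : Fin n ≃ (Σ _ : Fin t, Fin k) := (Pi.basisFun F (Fin n)).indexEquiv bb
  let L := (Pi.basisFun F (Fin n)).equiv bb e
  have hL : ∀ x : Fin n → F, L x = ∑ i, x i • bb (e i) := fun x => by
    conv_lhs => rw [pi_eq_sum_univ' x]
    rw [map_sum]
    refine Finset.sum_congr rfl fun i _ => ?_
    rw [map_smul, ← Pi.basisFun_apply F (Fin n) i, Module.Basis.equiv_apply]
  set P := TransvMax.glOf L with hP
  have hPx : ∀ x, (P : Matrix (Fin n) (Fin n) F) *ᵥ x = ∑ i, x i • bb (e i) := fun x => by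
    rw [hP, TransvMax.glOf_mulVec, hL]
  have hsum : ∀ (x : Fin n → F) (y : Fin n → F),
      Cfsg.hermForm n F q (∑ i, x i • bb (e i)) y = ∑ i, x i * Cfsg.hermForm n F q (bb (e i)) y :=
    fun x y => by
      show TransvMax.hermFun hf y (∑ i, x i • bb (e i)) = _
      rw [map_sum]
      exact Finset.sum_congr rfl fun i _ => by rw [map_smul]; rfl
  have hco : ∀ (x : Fin n → F) j,
      Cfsg.hermForm n F q ((P : Matrix (Fin n) (Fin n) F) *ᵥ x) (bb (e j)) = x j := fun x j => by
    rw [hPx, hsum, Finset.sum_eq_single j (fun i _ hi => by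
      rw [hbbo, if_neg (fun h => hi (e.injective h)), mul_zero]) (by simp), hbbo, if_pos rfl, mul_one]
  refine ⟨fun i => (e i).1, P, TransvMax.mem_GU_iff.2 fun x y => ?_, fun a => ?_, fun a x => ?_⟩
  · conv_lhs => arg 4; rw [hPx]
    rw [hsum, S.herm_apply]
    refine Finset.sum_congr rfl fun i _ => ?_
    rw [hf.herm (bb (e i)), hco]
  · rw [← Fintype.card_subtype]
    have h : {i : Fin n // (e i).1 = a} ≃ Fin k :=
      { toFun := fun i => (e i.1).2
        invFun := fun r => ⟨e.symm ⟨a, r⟩, by simp⟩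
        left_inv := fun i => Subtype.ext (by
          rw [Equiv.symm_apply_eq]
          exact Sigma.ext i.2.symm (by simp))
        right_inv := fun r => by simp }
    rw [Fintype.card_congr h, Fintype.card_fin]
  · constructor
    · intro hx i hi
      by_contra hne
      refine hi ?_
      rw [← hco x i, hbb]
      exact hD.orthogonal a (e i).1 (Ne.symm hne) _ hx _ (b _ _).2
    · intro hx
      rw [hPx]
      refine Submodule.sum_mem _ fun i _ => ?_
      by_cases hi : x i = 0
      · rw [hi, zero_smul]; exact Submodule.zero_mem _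
      · rw [← hx i hi, hbb]
        exact Submodule.smul_mem _ _ (b _ _).2

theorem conj_mem_sU {P g : GL (Fin n) F} (hP : P ∈ Cfsg.GU n F q) (hg : g ∈ sU n q F) :
    P * g * P⁻¹ ∈ sU n q F := by
  refine ⟨(Cfsg.GU n F q).mul_mem ((Cfsg.GU n F q).mul_mem hP hg.1) ((Cfsg.GU n F q).inv_mem hP), ?_⟩
  have h1 : Matrix.GeneralLinearGroup.det g = 1 := MonoidHom.mem_ker.1 hg.2
  show Matrix.GeneralLinearGroup.det (P * g * P⁻¹) = 1
  rw [map_mul, map_mul, h1, mul_one, map_inv, mul_inv_cancel]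

omit [Fintype F] in
/-- Permuting the blocks in coordinates is permuting the members. -/
theorem mem_stab_iff {blk : Fin n → Fin t} {P : GL (Fin n) F}
    (hm : ∀ a (x : Fin n → F), (P : Matrix (Fin n) (Fin n) F) *ᵥ x ∈ D a ↔ ∀ i, x i ≠ 0 → blk i = a)
    (hfr : ∀ a, Module.finrank F (D a) = k) {g : GL (Fin n) F} :
    g ∈ Cfsg.Geo.decompositionStabilizer D ↔ BlockPerm blk (P⁻¹ * g * P) := by
  have hPg : ∀ x, (P : Matrix (Fin n) (Fin n) F) *ᵥ
      (((P⁻¹ * g * P : GL (Fin n) F) : Matrix (Fin n) (Fin n) F) *ᵥ x) =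
      (g : Matrix (Fin n) (Fin n) F) *ᵥ ((P : Matrix (Fin n) (Fin n) F) *ᵥ x) := fun x => by
    rw [Units.val_mul, Units.val_mul, ← Matrix.mulVec_mulVec, ← Matrix.mulVec_mulVec,
      TransvMax.mulVec_inv_mulVec]
  constructor
  · rintro ⟨τ, hτ⟩
    refine ⟨τ, fun i j h => ?_⟩
    have h1 : (P : Matrix (Fin n) (Fin n) F) *ᵥ (Pi.single j 1 : Fin n → F) ∈ D (blk j) :=
      (hm _ _).2 fun r hr => by
        by_cases e : r = j
        · rw [e]
        · exact absurd (Pi.single_eq_of_ne e _) hr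
    have h2 : (P : Matrix (Fin n) (Fin n) F) *ᵥ
        (((P⁻¹ * g * P : GL (Fin n) F) : Matrix (Fin n) (Fin n) F) *ᵥ Pi.single j 1) ∈ D (τ (blk j)) := by
      rw [hPg, ← hτ]
      exact ⟨_, h1, Matrix.toLin'_apply _ _⟩
    exact (hm _ _).1 h2 i (by rwa [mulVec_single_apply])
  · rintro ⟨τ, hτ⟩
    refine ⟨τ, fun a => ?_⟩
    have hle : (D a).map (Matrix.toLin' (g : Matrix (Fin n) (Fin n) F)) ≤ D (τ a) := by
      rintro _ ⟨y, hy, rfl⟩
      rw [Matrix.toLin'_apply]
      obtain ⟨x, rfl⟩ : ∃ x, (P : Matrix (Fin n) (Fin n) F) *ᵥ x = y :=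
        ⟨_, TransvMax.mulVec_inv_mulVec P y⟩
      rw [← hPg, hm]
      intro i hi
      rw [Matrix.mulVec, dotProduct] at hi
      obtain ⟨j, -, hj⟩ := Finset.exists_ne_zero_of_sum_ne_zero hi
      obtain ⟨h1, h2⟩ := mul_ne_zero_iff.1 hj
      rw [hτ i j h1, (hm a x).1 hy j h2]
    refine Submodule.eq_of_le_of_finrank_eq hle ?_
    rw [← LinearEquiv.finrank_eq (Submodule.equivMapOfInjective _ (fun u v h => by
      simpa [Matrix.toLin'_apply, TransvMax.inv_mulVec_mulVec] using
        congrArg (((g⁻¹ : GL (Fin n) F) : Matrix (Fin n) (Fin n) F) *ᵥ ·) h) (D a)), hfr, hfr]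

/-- Some element does not permute the blocks. -/
theorem exists_not_blockPerm (S : Sq q σ) {blk : Fin n → Fin t} (ht : 2 ≤ t) (hn : 13 ≤ n)
    (hk : ∀ a, (Finset.univ.filter fun i => blk i = a).card = k) (hk0 : 0 < k) :
    ∃ g ∈ sU n q F, ¬ BlockPerm blk g := by
  classical
  have hf := S.unitary n
  obtain ⟨r, hr⟩ := TransvMax.exists_norm_eq S.ne_refl S.invol (a := (-1 : F)) (by simp)
  have hr0 : r ≠ 0 := fun e => by simp [e] at hr
  obtain ⟨e, he0, he⟩ := TransvMax.exists_trace_zero S.ne_refl S.invol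
  obtain ⟨a, ha⟩ : ∃ a, blk a = ⟨0, by omega⟩ := by
    obtain ⟨i, hi⟩ := Finset.card_pos.1 (lt_of_lt_of_eq hk0 (hk ⟨0, by omega⟩).symm)
    exact ⟨i, (Finset.mem_filter.1 hi).2⟩
  obtain ⟨b, hb⟩ : ∃ b, blk b = ⟨1, by omega⟩ := by
    obtain ⟨i, hi⟩ := Finset.card_pos.1 (lt_of_lt_of_eq hk0 (hk ⟨1, by omega⟩).symm)
    exact ⟨i, (Finset.mem_filter.1 hi).2⟩
  have hab : blk a ≠ blk b := by rw [ha, hb]; simp
  have hcol : ∀ (u : Fin n → F) (hu : Cfsg.hermForm n F q u u = 0) (i j : Fin n), i ≠ j →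
      (TransvMax.utrv hf hu e : Matrix (Fin n) (Fin n) F) i j = e * σ (u j) * u i := by
    intro u hu i j hij
    rw [← mulVec_single_apply, TransvMax.utrv_mulVec, Pi.add_apply, Pi.smul_apply, smul_eq_mul,
      Pi.single_eq_of_ne hij, zero_add, S.herm_apply,
      Finset.sum_eq_single j (fun l _ hl => by simp [hl]) (by simp), Pi.single_eq_same, one_mul]
  by_cases h2 : 2 ≤ k
  · obtain ⟨a', ha', ha'a⟩ := Finset.exists_mem_ne (lt_of_lt_of_eq h2 (hk (blk a)).symm) a
    rw [Finset.mem_filter] at ha'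
    have hne : a ≠ b := fun h => hab (congrArg blk h)
    have hu : Cfsg.hermForm n F q (Pi.single a 1 + r • Pi.single b 1) (Pi.single a 1 + r • Pi.single b 1) = 0 := by
      rw [S.herm_apply, sum_pair hne (fun i h1 h2 => by simp [h1, h2])]
      simp [hne, hne.symm]
      linear_combination hr
    refine ⟨_, TransvMax.utrv_mem_guSL hf hu he, fun ⟨τ, hτ⟩ => hab ?_⟩
    have hba' : b ≠ a' := fun h => hab (by rw [h, ha'.2])
    have h1 : blk b = τ (blk a) := by
      refine hτ b a ?_
      rw [hcol _ hu b a hne.symm]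
      simp [hne, hne.symm, he0, hr0]
    have h3 : blk a' = τ (blk a') := by
      refine hτ a' a' ?_
      rw [← mulVec_single_apply, TransvMax.utrv_mulVec, S.herm_apply,
        Finset.sum_eq_single a' (fun l _ hl => by simp [hl]) (by simp)]
      simp [ha'a, hba'.symm]
    rw [ha'.2] at h3
    rw [h1, ← h3]
  · have hk1 : k = 1 := by omega
    have hinj : Function.Injective blk := fun x y h =>
      Finset.card_le_one.1 (le_of_eq ((hk (blk x)).trans hk1)) x (by simp) y (by simp [h])
    obtain ⟨c, -, hc⟩ := Finset.exists_mem_notMem_of_card_lt_card (s := ({a, b} : Finset (Fin n)))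
      (t := Finset.univ) (lt_of_le_of_lt Finset.card_le_two (by rw [Finset.card_univ, Fintype.card_fin]; omega))
    obtain ⟨d, -, hd⟩ := Finset.exists_mem_notMem_of_card_lt_card (s := ({a, b, c} : Finset (Fin n)))
      (t := Finset.univ) (lt_of_le_of_lt Finset.card_le_three (by rw [Finset.card_univ, Fintype.card_fin]; omega))
    simp only [Finset.mem_insert, Finset.mem_singleton, not_or] at hc hd
    have hne : a ≠ b := fun h => hab (congrArg blk h)
    obtain ⟨u, hu_def⟩ : ∃ u : Fin n → F,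
        u = fun i => if i = a then 1 else if i = b then r else if i = c then 1 else if i = d then r else 0 :=
      ⟨_, rfl⟩
    have hu : Cfsg.hermForm n F q u u = 0 := by
      rw [S.herm_apply, ← Finset.sum_subset (Finset.subset_univ {a, b, c, d}) (fun i _ hi => by
        simp only [Finset.mem_insert, Finset.mem_singleton, not_or] at hi
        simp [hu_def, hi.1, hi.2.1, hi.2.2.1, hi.2.2.2]), Finset.sum_insert (by simp [hne, Ne.symm hc.1, Ne.symm hd.1]),
        Finset.sum_insert (by simp [Ne.symm hc.2, Ne.symm hd.2.1]),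
        Finset.sum_insert (by simp [Ne.symm hd.2.2]), Finset.sum_singleton]
      simp [hu_def, hne.symm, hc.1, hc.2, hd.1, hd.2.1, hd.2.2]
      linear_combination 2 * hr
    refine ⟨_, TransvMax.utrv_mem_guSL hf hu he, fun ⟨τ, hτ⟩ => hc.2 (hinj ?_)⟩
    rw [hτ c a (by rw [hcol _ hu c a hc.1]; simp [hu_def, hc.1, hc.2, he0]),
      ← hτ b a (by rw [hcol _ hu b a hne.symm]; simp [hu_def, hne.symm, he0, hr0])]

/-- The centres of the conjugated group. -/
theorem isoCentre_conj (S : Sq q σ) {K : Subgroup (GL (Fin n) F)} {P : GL (Fin n) F}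
    (hP : P ∈ Cfsg.GU n F q) {u : Fin n → F}
    (h : TransvMax.IsoCentre (S.unitary n) (K.comap (MulAut.conj P).toMonoidHom) u) :
    TransvMax.IsoCentre (S.unitary n) K ((P : Matrix (Fin n) (Fin n) F) *ᵥ u) := by
  refine ⟨by rw [TransvMax.mem_GU_iff.1 hP]; exact h.1, fun e he => ?_⟩
  have h1 : P * TransvMax.utrv (S.unitary n) h.1 e * P⁻¹ ∈ K := h.2 e he
  convert h1 using 1
  refine TransvMax.gl_ext fun x => ?_
  rw [Units.val_mul, Units.val_mul, ← Matrix.mulVec_mulVec, ← Matrix.mulVec_mulVec,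
    TransvMax.utrv_mulVec, TransvMax.utrv_mulVec, Matrix.mulVec_add, Matrix.mulVec_smul,
    TransvMax.mulVec_inv_mulVec]
  congr 3
  conv_lhs => rw [← TransvMax.mulVec_inv_mulVec P x, TransvMax.mem_GU_iff.1 hP]

end Cfsg.Agent.UFrame
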