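import Cfsg.Agent.Lib.TransvMax.UFrame.Basic

/-!
From one isotropic centre meeting two blocks to all isotropic centres with two coordinates.
-/

set_option autoImplicit false

namespace Cfsg.Agent.UFrame

open scoped Matrix MatrixGroups
open Cfsg.Agent

variable {F : Type*} [Field F] [Fintype F] {n q t : ℕ} {σ : F ≃+* F} {blk : Fin n → Fin t}
  {K : Subgroup (GL (Fin n) F)}

omit [Fintype F] in
theorem norm_fixed (h2 : ∀ x, σ (σ x) = x) (x : F) : σ (x * σ x) = x * σ x := by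
  rw [map_mul, h2, mul_comm]

omit [Fintype F] in
theorem sum_pair {a b : Fin n} (hab : a ≠ b) {g : Fin n → F} (h : ∀ i, i ≠ a → i ≠ b → g i = 0) :
    ∑ i, g i = g a + g b :=
  Fintype.sum_eq_add a b hab fun i hi => h i hi.1 hi.2

namespace Over

variable (O : Over q σ blk K)

include O

/-- Every isotropic vector with two coordinates is a centre. -/
def AllDb (O : Over q σ blk K) : Prop :=
  ∀ a b, a ≠ b → ∀ w : Fin n → F, (∀ i, i ≠ a → i ≠ b → w i = 0) → ∑ i, w i * σ (w i) = 0 → O.Cen w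

theorem cen_smul {v : Fin n → F} (h : O.Cen v) (c : F) : O.Cen (c • v) :=
  TransvMax.IsoCentre.smul h c

/-- A centre minus its image under a diagonal element. -/
theorem cen_diff {v : Fin n → F} (hv : O.Cen v) {u : Fin n → F} (hu : ∀ i, u i * σ (u i) = 1)
    (h1 : ∏ i, u i = 1) {γ : F} (hγ : ∑ i, v i * σ (v i) * (σ (u i) - 1) = γ) (hγ0 : γ ≠ 0)
    (hγt : γ + σ γ = 0) : O.Cen fun i => (1 - u i) * v i := by
  have hv' := O.cen_map hv (O.dia_mem hu h1)
  rw [dia_mulVec] at hv'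
  have he : -γ⁻¹ + σ (-γ⁻¹) = 0 := by
    rw [map_neg, map_inv₀, show σ γ = -γ from eq_neg_of_add_eq_zero_right hγt, inv_neg]
    ring
  have h := TransvMax.IsoCentre.line hv hv' he
  have hval : Cfsg.hermForm n F q v (fun j => u j * v j) = γ := by
    rw [O.sq.herm_apply, ← hγ, ← add_zero (∑ i, v i * σ (v i) * (σ (u i) - 1)), ← O.cen_iso hv,
      ← Finset.sum_add_distrib]
    exact Finset.sum_congr rfl fun i _ => by rw [map_mul]; ring
  rw [hval, neg_mul, inv_mul_cancel₀ hγ0] at h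
  show O.Cen fun i => (1 - u i) * v i
  rw [show (fun i => (1 - u i) * v i) = v + (-1 : F) • (fun j => u j * v j) from
    funext fun i => by simp; ring]
  exact h

/-- Two coordinates cut out of a centre. -/
theorem cen_pair {v : Fin n → F} (hv : O.Cen v) {a b c : Fin n} (hab : a ≠ b) (ha : v a ≠ 0)
    (hb : v b ≠ 0) (hc : v c = 0)
    (hcond : (2 : F) = 0 ∨ v a * σ (v a) + v b * σ (v b) ≠ 0) :
    ∃ w, O.Cen w ∧ w a ≠ 0 ∧ w b ≠ 0 ∧ ∀ i, i ≠ a → i ≠ b → w i = 0 := by
  set A := v a * σ (v a) with hA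
  set B := v b * σ (v b) with hB
  have hA0 : A ≠ 0 := mul_ne_zero ha ((map_ne_zero σ).2 ha)
  have hB0 : B ≠ 0 := mul_ne_zero hb ((map_ne_zero σ).2 hb)
  have hA' : σ A = A := norm_fixed O.sq.invol _
  have hB' : σ B = B := norm_fixed O.sq.invol _
  obtain ⟨x, y, hx, hy, hx1, hy1, hxy, hne⟩ : ∃ x y, x * σ x = 1 ∧ y * σ y = 1 ∧ x ≠ 1 ∧ y ≠ 1 ∧
      A * (2 - x - σ x) + B * (2 - y - σ y) = 0 ∧ A * (σ x - 1) + B * (σ y - 1) ≠ 0 := by
    obtain ⟨x, y, hx, hy, hx1, hy1, hxy⟩ := O.sq.exists_pair_dist hA0 hB0 hA' hB'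
    by_cases h : A * (σ x - 1) + B * (σ y - 1) = 0
    · by_cases hy2 : σ y = y
      · exfalso
        have hyy : (y - 1) * (y + 1) = 0 := by
          rw [hy2] at hy
          linear_combination hy
        have hym : y = -1 := eq_neg_of_add_eq_zero_left
          ((mul_eq_zero.1 hyy).resolve_left (sub_ne_zero.2 hy1))
        rcases hcond with h2 | hS
        · exact hy1 (by rw [hym]; linear_combination -h2)
        have hxr : σ x = x := by
          refine mul_left_cancel₀ hA0 ?_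
          have h' := congrArg σ h
          simp only [map_add, map_sub, map_mul, map_one, map_zero, hA', hB', O.sq.invol, hy2] at h'
          rw [hy2] at h
          linear_combination h - h'
        have hxx : (x - 1) * (x + 1) = 0 := by
          rw [hxr] at hx
          linear_combination hx
        have hxm : x = -1 := eq_neg_of_add_eq_zero_left
          ((mul_eq_zero.1 hxx).resolve_left (sub_ne_zero.2 hx1))
        rw [hxr, hy2, hxm, hym] at h
        by_cases h2 : (2 : F) = 0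
        · exact hy1 (by rw [hym]; linear_combination -h2)
        exact hS ((mul_eq_zero.1 (show (2 : F) * (A + B) = 0 by linear_combination -h)).resolve_left h2)
      · refine ⟨x, σ y, hx, O.sq.unit_conj hy, hx1, fun e => hy1 ?_, ?_, fun e => hy2 ?_⟩
        · simpa [O.sq.invol] using congrArg σ e
        · rw [O.sq.invol]
          linear_combination hxy
        · rw [O.sq.invol] at e
          exact mul_left_cancel₀ hB0 (by linear_combination h - e)
    · exact ⟨x, y, hx, hy, hx1, hy1, hxy, h⟩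
  have hca : c ≠ a := fun e => ha (e ▸ hc)
  have hcb : c ≠ b := fun e => hb (e ▸ hc)
  obtain ⟨u, hu_def⟩ : ∃ u : Fin n → F,
      u = fun i => if i = a then x else if i = b then y else if i = c then (x * y)⁻¹ else 1 := ⟨_, rfl⟩
  have hu : ∀ i, u i * σ (u i) = 1 := fun i => by
    rw [hu_def]
    dsimp only
    split_ifs
    · exact hx
    · exact hy
    · exact Sq.unit_inv' (Sq.unit_mul hx hy)
    · simp
  have hua : u a = x := by simp [hu_def]
  have hub : u b = y := by simp [hu_def, hab.symm]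
  have huc : u c = (x * y)⁻¹ := by simp [hu_def, hca, hcb]
  have huo : ∀ i, i ≠ a → i ≠ b → i ≠ c → u i = 1 := fun i h1 h2 h3 => by simp [hu_def, h1, h2, h3]
  have hprod : ∏ i, u i = 1 := by
    rw [← Finset.prod_subset (Finset.subset_univ {a, b, c}) (fun i _ hi => by
      simp only [Finset.mem_insert, Finset.mem_singleton, not_or] at hi
      exact huo i hi.1 hi.2.1 hi.2.2), Finset.prod_insert (by simp [hab, hca.symm]),
      Finset.prod_insert (by simp [hcb.symm]), Finset.prod_singleton, hua, hub, huc]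
    have := Sq.unit_ne_zero hx
    have := Sq.unit_ne_zero hy
    field_simp
  have hz : ∀ i, i ≠ a → i ≠ b → (1 - u i) * v i = 0 := fun i h1 h2 => by
    by_cases h3 : i = c
    · rw [h3, hc, mul_zero]
    · rw [huo i h1 h2 h3, sub_self, zero_mul]
  have hγ : ∑ i, v i * σ (v i) * (σ (u i) - 1) = A * (σ x - 1) + B * (σ y - 1) := by
    rw [sum_pair hab fun i h1 h2 => ?_, hua, hub]
    by_cases h3 : i = c
    · rw [h3, hc]; ring
    · rw [huo i h1 h2 h3, map_one, sub_self, mul_zero]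
  refine ⟨_, O.cen_diff hv hu hprod hγ hne ?_, ?_, ?_, hz⟩
  · simp only [map_add, map_sub, map_mul, map_one, hA', hB', O.sq.invol]
    linear_combination -hxy
  · show (1 - u a) * v a ≠ 0
    rw [hua]; exact mul_ne_zero (sub_ne_zero.2 hx1.symm) ha
  · show (1 - u b) * v b ≠ 0
    rw [hub]; exact mul_ne_zero (sub_ne_zero.2 hy1.symm) hb

/-- Two coordinates of opposite norm cut out of a centre. -/
theorem cen_opposite {v : Fin n → F} (hv : O.Cen v) {a b : Fin n} (hab : a ≠ b) (ha : v a ≠ 0)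
    (hN : v b * σ (v b) = -(v a * σ (v a))) :
    ∃ w, O.Cen w ∧ w a ≠ 0 ∧ w b ≠ 0 ∧ ∀ i, i ≠ a → i ≠ b → w i = 0 := by
  obtain ⟨μ, hμ, hμ'⟩ := O.sq.exists_nonreal
  have hA0 : v a * σ (v a) ≠ 0 := mul_ne_zero ha ((map_ne_zero σ).2 ha)
  have hb : v b ≠ 0 := fun e => by
    rw [e, zero_mul, eq_comm, neg_eq_zero] at hN
    exact hA0 hN
  obtain ⟨u, hu_def⟩ : ∃ u : Fin n → F, u = fun i => if i = a then μ else if i = b then σ μ else 1 :=
    ⟨_, rfl⟩
  have hu : ∀ i, u i * σ (u i) = 1 := fun i => by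
    rw [hu_def]
    dsimp only
    split_ifs
    · exact hμ
    · exact O.sq.unit_conj hμ
    · simp
  have hua : u a = μ := by simp [hu_def]
  have hub : u b = σ μ := by simp [hu_def, hab.symm]
  have huo : ∀ i, i ≠ a → i ≠ b → u i = 1 := fun i h1 h2 => by simp [hu_def, h1, h2]
  have hprod : ∏ i, u i = 1 := by
    rw [Fintype.prod_eq_mul a b hab (fun i hi => huo i hi.1 hi.2), hua, hub, hμ]
  have hγ : ∑ i, v i * σ (v i) * (σ (u i) - 1) = v a * σ (v a) * (σ μ - μ) := by
    rw [sum_pair hab fun i h1 h2 => by rw [huo i h1 h2, map_one, sub_self, mul_zero], hua, hub, hN,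
      O.sq.invol]
    ring
  refine ⟨_, O.cen_diff hv hu hprod hγ (mul_ne_zero hA0 (sub_ne_zero.2 hμ')) ?_, ?_, ?_,
    fun i h1 h2 => by show (1 - u i) * v i = 0; rw [huo i h1 h2, sub_self, zero_mul]⟩
  · rw [map_mul σ (v a * σ (v a)), map_sub, norm_fixed O.sq.invol, O.sq.invol]
    ring
  · show (1 - u a) * v a ≠ 0
    rw [hua]
    exact mul_ne_zero (sub_ne_zero.2 fun e => hμ' (by rw [← e, map_one])) ha
  · show (1 - u b) * v b ≠ 0
    rw [hub]
    exact mul_ne_zero (sub_ne_zero.2 fun e => hμ' (by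
      have h1 : μ = 1 := by simpa [O.sq.invol] using congrArg σ e.symm
      rw [h1, map_one])) hb

/-- The rotations in two coordinates lie in the group. -/
def Rot (O : Over q σ blk K) (a b : Fin n) : Prop :=
  ∀ {A B : F}, A * σ A + B * σ B = 1 → ∃ g ∈ K, ∀ x : Fin n → F,
    ((g : Matrix (Fin n) (Fin n) F) *ᵥ x) a = A * x a + B * x b ∧
    ((g : Matrix (Fin n) (Fin n) F) *ᵥ x) b = -σ B * x a + σ A * x b ∧
    ∀ i, i ≠ a → i ≠ b → ((g : Matrix (Fin n) (Fin n) F) *ᵥ x) i = x i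

theorem rot_of_blk {a b : Fin n} (hab : a ≠ b) (hblk : blk a = blk b) : O.Rot a b :=
  fun h => O.rot_mem hab hblk h

/-- A rotation killing a coordinate. -/
theorem exists_fold {v : Fin n → F} {a b : Fin n} (hrot : O.Rot a b)
    (hS : v a * σ (v a) + v b * σ (v b) ≠ 0) :
    ∃ g ∈ K, ∃ v', (g : Matrix (Fin n) (Fin n) F) *ᵥ v = v' ∧ v' b = 0 ∧ v' a ≠ 0 ∧
      v' a * σ (v' a) = v a * σ (v a) + v b * σ (v b) ∧ ∀ i, i ≠ a → i ≠ b → v' i = v i := by
  obtain ⟨r, hr⟩ := TransvMax.exists_norm_eq O.sq.ne_refl O.sq.invol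
    (a := v a * σ (v a) + v b * σ (v b)) (by
      rw [map_add, norm_fixed O.sq.invol, norm_fixed O.sq.invol])
  have hr0 : r ≠ 0 := fun e => hS (by rw [← hr, e, zero_mul])
  have hr0' : σ r ≠ 0 := (map_ne_zero σ).2 hr0
  obtain ⟨g, hg, hgx⟩ := hrot (A := σ (v a) / r) (B := σ (v b) / r) (by
    simp only [map_div₀, O.sq.invol]
    field_simp
    linear_combination -hr)
  obtain ⟨h1, h2, h3⟩ := hgx v
  have e1 : ((g : Matrix (Fin n) (Fin n) F) *ᵥ v) a = σ r := by
    rw [h1]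
    field_simp
    linear_combination -hr
  refine ⟨g, hg, _, rfl, ?_, by rw [e1]; exact hr0', by rw [e1, O.sq.invol, mul_comm, hr], h3⟩
  rw [h2]
  simp only [map_div₀, O.sq.invol]
  field_simp
  ring

/-- A rotation of an isotropic pair changing one coordinate. -/
theorem exists_retarget {v : Fin n → F} {a b : Fin n} (hrot : O.Rot a b)
    (ha : v a ≠ 0) (hS : v a * σ (v a) + v b * σ (v b) = 0) {x : F} (hx : x ≠ 0) :
    ∃ g ∈ K, ∃ v', (g : Matrix (Fin n) (Fin n) F) *ᵥ v = v' ∧ v' a = x ∧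
      ∀ i, i ≠ a → i ≠ b → v' i = v i := by
  have hb : v b ≠ 0 := fun e => ha (by
    rw [e, zero_mul, add_zero, mul_eq_zero, map_eq_zero, or_self] at hS
    exact hS)
  obtain ⟨τ, hτ⟩ := TransvMax.exists_trace_eq O.sq.ne_refl O.sq.invol
    (a := x * σ x - v a * σ (v a)) (by
      rw [map_sub, norm_fixed O.sq.invol, norm_fixed O.sq.invol])
  have hx' : σ x ≠ 0 := (map_ne_zero σ).2 hx
  have ha' : σ (v a) ≠ 0 := (map_ne_zero σ).2 ha
  have hb' : σ (v b) ≠ 0 := (map_ne_zero σ).2 hb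
  obtain ⟨g, hg, hgx⟩ := hrot (A := (x - τ / σ x) / v a) (B := τ / (σ x * v b)) (by
    have hb2 : v b * σ (v b) = -(v a * σ (v a)) := eq_neg_of_add_eq_zero_right hS
    simp only [map_div₀, map_sub, map_mul, O.sq.invol]
    field_simp
    linear_combination (-(x * σ x * v b * σ (v b))) * hτ + τ * σ τ * hb2)
  obtain ⟨h1, -, h3⟩ := hgx v
  refine ⟨g, hg, _, rfl, ?_, h3⟩
  rw [h1]
  field_simp
  ring

theorem exists_partner (h2 : ∃ a b : Fin n, a ≠ b ∧ blk a = blk b) (a : Fin n) :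
    ∃ b, b ≠ a ∧ blk b = blk a := by
  obtain ⟨k, hk, h⟩ := O.size
  obtain ⟨a₀, b₀, hab, he⟩ := h2
  have h1 : 1 < k := by
    rw [← h (blk a₀)]
    exact Finset.one_lt_card.2 ⟨a₀, by simp, b₀, by simp [he], hab⟩
  obtain ⟨b, hb, hba⟩ := Finset.exists_mem_ne (lt_of_lt_of_eq h1 (h (blk a)).symm) a
  exact ⟨b, hba, (Finset.mem_filter.1 hb).2⟩

/-- A centre with two coordinates in different blocks. -/
theorem exists_cross {v : Fin n → F} (hv : O.Cen v)
    (hcross : ∃ a b, blk a ≠ blk b ∧ v a ≠ 0 ∧ v b ≠ 0)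
    (hz : (∃ c, v c = 0) ∨ ∃ a b : Fin n, a ≠ b ∧ blk a = blk b) :
    ∃ w a b, O.Cen w ∧ blk a ≠ blk b ∧ w a ≠ 0 ∧ w b ≠ 0 ∧ ∀ i, i ≠ a → i ≠ b → w i = 0 := by
  have finish : ∀ {v : Fin n → F}, O.Cen v → ∀ {a b : Fin n}, blk a ≠ blk b → v a ≠ 0 → v b ≠ 0 →
      ∀ {c}, v c = 0 →
      ∃ w a b, O.Cen w ∧ blk a ≠ blk b ∧ w a ≠ 0 ∧ w b ≠ 0 ∧ ∀ i, i ≠ a → i ≠ b → w i = 0 := by
    intro v hv a b hab ha hb c hc
    by_cases hgood : ∃ a b, blk a ≠ blk b ∧ v a ≠ 0 ∧ v b ≠ 0 ∧
        ((2 : F) = 0 ∨ v a * σ (v a) + v b * σ (v b) ≠ 0)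
    · obtain ⟨a, b, hab, ha, hb, hcond⟩ := hgood
      obtain ⟨w, hw, h1, h2, h3⟩ := O.cen_pair hv (fun e => hab (congrArg blk e)) ha hb hc hcond
      exact ⟨w, a, b, hw, hab, h1, h2, h3⟩
    push Not at hgood
    have h2 : (2 : F) ≠ 0 := (hgood a b hab ha hb).1
    by_cases hsupp : ∀ i, i ≠ a → i ≠ b → v i = 0
    · exact ⟨v, a, b, hv, hab, ha, hb, hsupp⟩
    push Not at hsupp
    obtain ⟨l, hla, hlb, hl⟩ := hsupp
    have key : ∀ {a b : Fin n}, blk a ≠ blk b → v a ≠ 0 → v b ≠ 0 → l ≠ a → blk l = blk a → l ≠ b →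
        ∃ w a b, O.Cen w ∧ blk a ≠ blk b ∧ w a ≠ 0 ∧ w b ≠ 0 ∧ ∀ i, i ≠ a → i ≠ b → w i = 0 := by
      intro a b hab ha hb hla hlab hlb
      have e1 := (hgood a b hab ha hb).2
      have e2 := (hgood l b (hlab ▸ hab) hl hb).2
      have hN : v l * σ (v l) = v a * σ (v a) := by linear_combination e2 - e1
      obtain ⟨g, hg, v', hgv, hv'l, hv'a, hv'N, hv'o⟩ := O.exists_fold (O.rot_of_blk hla.symm hlab.symm)
        (v := v) (by
        rw [hN, ← two_mul]
        exact mul_ne_zero h2 (mul_ne_zero ha ((map_ne_zero σ).2 ha)))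
      have hv' : O.Cen v' := hgv ▸ O.cen_map hv hg
      have hba : b ≠ a := fun e => hab (congrArg blk e.symm)
      have hv'b : v' b = v b := hv'o b hba hlb.symm
      obtain ⟨w, hw, h1, h2', h3⟩ := O.cen_pair hv' hba.symm hv'a (hv'b.symm ▸ hb) hv'l (Or.inr (by
        rw [hv'N, hv'b, hN, add_assoc, e1, add_zero]
        exact mul_ne_zero ha ((map_ne_zero σ).2 ha)))
      exact ⟨w, a, b, hw, hab, h1, h2', h3⟩
    by_cases hla' : blk l = blk a
    · exact key hab ha hb hla hla' hlb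
    by_cases hlb' : blk l = blk b
    · exact key hab.symm hb ha hlb hlb' hla
    exfalso
    have e1 := (hgood a b hab ha hb).2
    have e2 := (hgood l b hlb' hl hb).2
    have e3 := (hgood l a hla' hl ha).2
    refine mul_ne_zero h2 (mul_ne_zero ha ((map_ne_zero σ).2 ha)) ?_
    linear_combination e1 - e2 + e3
  obtain ⟨a, b, hab, ha, hb⟩ := hcross
  by_cases hfull : ∃ c, v c = 0
  · exact finish hv hab ha hb hfull.choose_spec
  obtain hblk2 := hz.resolve_left hfull
  push Not at hfull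
  obtain ⟨a', ha'a, ha'blk⟩ := O.exists_partner hblk2 a
  have hba' : b ≠ a' := fun e => hab (by rw [e, ha'blk])
  have hba : b ≠ a := fun e => hab (congrArg blk e.symm)
  by_cases hS : v a * σ (v a) + v a' * σ (v a') = 0
  · obtain ⟨x, hx⟩ := TransvMax.exists_norm_eq O.sq.ne_refl O.sq.invol (a := -(v b * σ (v b))) (by
      rw [map_neg, norm_fixed O.sq.invol])
    have hx0 : x ≠ 0 := fun e => by
      rw [e, zero_mul, eq_comm, neg_eq_zero] at hx
      exact mul_ne_zero hb ((map_ne_zero σ).2 hb) hx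
    obtain ⟨g, hg, v', hgv, hv'a, hv'o⟩ :=
      O.exists_retarget (O.rot_of_blk ha'a.symm ha'blk.symm) ha hS hx0
    have hv' : O.Cen v' := hgv ▸ O.cen_map hv hg
    obtain ⟨w, hw, h1, h2, h3⟩ := O.cen_opposite hv' hba.symm (hv'a.symm ▸ hx0) (by
      rw [hv'a, hv'o b hba hba', hx, neg_neg])
    exact ⟨w, a, b, hw, hab, h1, h2, h3⟩
  · obtain ⟨g, hg, v', hgv, hv'z, hv'a, -, hv'o⟩ :=
      O.exists_fold (O.rot_of_blk ha'a.symm ha'blk.symm) hS
    have hv' : O.Cen v' := hgv ▸ O.cen_map hv hg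
    exact finish hv' hab hv'a ((hv'o b hba hba').symm ▸ hb) hv'z

/-- Coordinates adapted to the blocks. -/
theorem exists_coords : ∃ (k : ℕ) (φ : Fin n ≃ Fin t × Fin k), ∀ i, (φ i).1 = blk i := by
  classical
  obtain ⟨k, -, hk⟩ := O.size
  have e : ∀ a, {i // blk i = a} ≃ Fin k := fun a =>
    Fintype.equivFinOfCardEq (by rw [Fintype.card_subtype]; exact hk a)
  exact ⟨k, ((Equiv.sigmaFiberEquiv blk).symm.trans (Equiv.sigmaCongrRight e)).trans
    (Equiv.sigmaEquivProd (Fin t) (Fin k)), fun i => rfl⟩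

/-- All centres with two coordinates, from one joining two blocks. -/
theorem allDb_of_cross {w₀ : Fin n → F} {a b : Fin n} (hw₀ : O.Cen w₀) (hab : blk a ≠ blk b)
    (ha : w₀ a ≠ 0) (hb : w₀ b ≠ 0) (hsupp : ∀ i, i ≠ a → i ≠ b → w₀ i = 0) : O.AllDb := by
  intro a' b' hab' w hw hiso
  have hne : a ≠ b := fun e => hab (congrArg blk e)
  have hherm : Cfsg.hermForm n F q w w = 0 := by rw [O.sq.herm_apply]; exact hiso
  by_cases hblk : blk a' = blk b'
  · refine O.cen_mem hherm fun i j hi hj => ?_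
    have h1 : ∀ i, w i ≠ 0 → blk i = blk a' := fun i hi => by
      by_cases h1 : i = a'
      · rw [h1]
      by_cases h2 : i = b'
      · rw [h2, hblk]
      exact absurd (hw i h1 h2) hi
    rw [h1 i hi, h1 j hj]
  have hiso₀ := O.cen_iso hw₀
  rw [sum_pair hne fun i h1 h2 => by rw [hsupp i h1 h2, zero_mul]] at hiso₀
  rw [sum_pair hab' fun i h1 h2 => by rw [hw i h1 h2, zero_mul]] at hiso
  obtain ⟨k, φ, hφ⟩ := O.exists_coords
  let τ : Equiv.Perm (Fin t) := (Equiv.swap (blk a) (blk a')).trans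
    (Equiv.swap (Equiv.swap (blk a) (blk a') (blk b)) (blk b'))
  have hτb : τ (blk b) = blk b' := by simp [τ]
  have hτa : τ (blk a) = blk a' := by
    simp only [τ, Equiv.trans_apply, Equiv.swap_apply_left]
    refine Equiv.swap_apply_of_ne_of_ne ?_ hblk
    intro e
    exact hab ((Equiv.swap (blk a) (blk a')).injective (by rw [Equiv.swap_apply_left, ← e]))
  let ρ : Fin t → Equiv.Perm (Fin k) := fun A =>
    if A = blk a then Equiv.swap (φ a).2 (φ a').2 else Equiv.swap (φ b).2 (φ b').2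
  let π : Equiv.Perm (Fin n) := (φ.trans
    ((Equiv.prodShear τ ρ))).trans φ.symm
  have hπφ : ∀ i, φ (π i) = (τ (φ i).1, ρ (φ i).1 (φ i).2) := fun i => by
    simp [π, Equiv.prodShear]
  have hπ : ∀ i j, blk i = blk j ↔ blk (π i) = blk (π j) := fun i j => by
    rw [← hφ (π i), ← hφ (π j), hπφ, hπφ, τ.injective.eq_iff, hφ, hφ]
  have hπa : π a = a' := φ.injective (by
    rw [hπφ]
    refine Prod.ext ?_ ?_
    · simp [hφ, hτa]
    · simp [ρ, hφ])
  have hπb : π b = b' := φ.injective (by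
    rw [hπφ]
    refine Prod.ext ?_ ?_
    · simp [hφ, hτb]
    · simp [ρ, hφ, Ne.symm hab])
  obtain ⟨c, hc⟩ := Finset.exists_mem_notMem_of_card_lt_card (s := ({a, b} : Finset (Fin n)))
    (t := Finset.univ) (by
      rw [Finset.card_univ, Fintype.card_fin]
      have := Finset.card_le_two (a := a) (b := b)
      have := O.dim
      omega)
  simp only [Finset.mem_univ, true_and, Finset.mem_insert, Finset.mem_singleton, not_or] at hc
  by_cases hwa : w a' = 0
  · have hwb : w b' = 0 := by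
      rw [hwa, zero_mul, zero_add, mul_eq_zero, map_eq_zero, or_self] at hiso
      exact hiso
    refine O.cen_mem hherm fun i j hi _ => absurd ?_ hi
    by_cases h1 : i = a'
    · rw [h1, hwa]
    by_cases h2 : i = b'
    · rw [h2, hwb]
    exact hw i h1 h2
  set s := w a' / w₀ a with hs
  have hs0 : s ≠ 0 := div_ne_zero hwa ha
  set ub := w b' / (s * w₀ b) with hubdef
  have hub : ub * σ ub = 1 := by
    have e1 : w b' * σ (w b') = -(w a' * σ (w a')) := by linear_combination hiso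
    have e2 : w₀ b * σ (w₀ b) = -(w₀ a * σ (w₀ a)) := by linear_combination hiso₀
    have ha' := (map_ne_zero σ).2 ha
    have hwa' := (map_ne_zero σ).2 hwa
    simp only [hubdef, hs, map_div₀, map_mul]
    rw [div_mul_div_comm, e1,
      show w a' / w₀ a * w₀ b * (σ (w a') / σ (w₀ a) * σ (w₀ b)) =
        w a' * σ (w a') / (w₀ a * σ (w₀ a)) * (w₀ b * σ (w₀ b)) by field_simp, e2]
    field_simp
  set S := ((Equiv.Perm.sign π : ℤ) : F) with hSdef
  have hS : S * σ S = 1 := by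
    rcases Int.units_eq_one_or (Equiv.Perm.sign π) with h | h <;> simp [hSdef, h]
  obtain ⟨u, hu_def⟩ : ∃ u : Fin n → F,
      u = fun i => if i = b then ub else if i = c then (S * ub)⁻¹ else 1 := ⟨_, rfl⟩
  have hu : ∀ i, u i * σ (u i) = 1 := fun i => by
    rw [hu_def]
    dsimp only
    split_ifs
    · exact hub
    · exact Sq.unit_inv' (Sq.unit_mul hS hub)
    · simp
  have h1 : S * ∏ i, u i = 1 := by
    rw [Fintype.prod_eq_mul b c (Ne.symm hc.2) (fun i hi => by simp [hu_def, hi.1, hi.2])]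
    have := Sq.unit_ne_zero hS
    have := Sq.unit_ne_zero hub
    simp only [hu_def, ↓reduceIte, hc.2]
    field_simp
  have h := O.cen_smul (O.cen_map hw₀ (O.mon_mem hπ hu h1)) s
  rw [mon_mulVec] at h
  convert h using 1
  funext i
  simp only [Pi.smul_apply, smul_eq_mul]
  by_cases h1 : i = a'
  · rw [h1]
    rw [show π.symm a' = a by rw [Equiv.symm_apply_eq, hπa]]
    simp [hu_def, hne, Ne.symm hc.1, hs, ha]
  by_cases h2 : i = b'
  · rw [h2]
    rw [show π.symm b' = b by rw [Equiv.symm_apply_eq, hπb]]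
    simp only [hu_def, ↓reduceIte, hubdef]
    field_simp
  · rw [hw i h1 h2, hsupp _ (fun e => h1 (by rw [← hπa, ← e, Equiv.apply_symm_apply]))
      (fun e => h2 (by rw [← hπb, ← e, Equiv.apply_symm_apply])), mul_zero, mul_zero]

end Over

end Cfsg.Agent.UFrame
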