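import Cfsg.Agent.Lib.TransvMax.UFrame.Spread

/-!
Overgroups of the monomial group: some element outside fixes a coordinate line.
-/

set_option autoImplicit false

namespace Cfsg.Agent.UFrame

open scoped Matrix MatrixGroups
open Cfsg.Agent

variable {F : Type*} [Field F] {n q t : ℕ} {σ : F ≃+* F} {blk : Fin n → Fin t}
  {K : Subgroup (GL (Fin n) F)}

/-- At most one coordinate is non-zero. -/
def Single (v : Fin n → F) : Prop := ∃ a, ∀ i, i ≠ a → v i = 0

/-- Each coordinate line goes to a coordinate line. -/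
def Mono (g : GL (Fin n) F) : Prop :=
  ∀ a, Single ((g : Matrix (Fin n) (Fin n) F) *ᵥ Pi.single a 1)

theorem Single.eq {v : Fin n → F} {a : Fin n} (h : ∀ i, i ≠ a → v i = 0) :
    v = v a • Pi.single a 1 := by
  funext i
  by_cases hi : i = a
  · subst hi; simp
  · simp [h i hi, hi]

theorem Mono.mul {g h : GL (Fin n) F} (hg : Mono g) (hh : Mono h) : Mono (g * h) := fun a => by
  obtain ⟨b, hb⟩ := hh a
  obtain ⟨c, hc⟩ := hg b
  refine ⟨c, fun i hi => ?_⟩
  rw [Units.val_mul, ← Matrix.mulVec_mulVec, Single.eq hb, Matrix.mulVec_smul, Pi.smul_apply, hc i hi,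
    smul_zero]

/-- The shape of a monomial element. -/
structure Shape (m : GL (Fin n) F) (π : Fin n → Fin n) (c : Fin n → F) : Prop where
  inj : Function.Injective π
  ne : ∀ j, c j ≠ 0
  map : ∀ j, (m : Matrix (Fin n) (Fin n) F) *ᵥ Pi.single j 1 = c j • Pi.single (π j) 1

theorem Mono.shape {m : GL (Fin n) F} (hm : Mono m) : ∃ π c, Shape m π c := by
  choose π hπ using hm
  set c : Fin n → F := fun j => ((m : Matrix (Fin n) (Fin n) F) *ᵥ Pi.single j 1) (π j)
  have hmap : ∀ j, (m : Matrix (Fin n) (Fin n) F) *ᵥ Pi.single j 1 = c j • Pi.single (π j) 1 :=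
    fun j => Single.eq (hπ j)
  have hne : ∀ j, c j ≠ 0 := fun j e => by
    have h := congrArg (((m⁻¹ : GL (Fin n) F) : Matrix (Fin n) (Fin n) F) *ᵥ ·) (hmap j)
    simp only [TransvMax.inv_mulVec_mulVec, e, zero_smul, Matrix.mulVec_zero] at h
    exact one_ne_zero (Pi.single_eq_zero_iff.1 h)
  refine ⟨π, c, fun a b hab => ?_, hne, hmap⟩
  by_contra hne'
  have h : (m : Matrix (Fin n) (Fin n) F) *ᵥ (c b • Pi.single a 1 - c a • Pi.single b 1) = 0 := by
    rw [Matrix.mulVec_sub, Matrix.mulVec_smul, Matrix.mulVec_smul, hmap, hmap, hab, smul_smul, smul_smul,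
      mul_comm, sub_self]
  have h2 := congrArg (((m⁻¹ : GL (Fin n) F) : Matrix (Fin n) (Fin n) F) *ᵥ ·) h
  simp only [TransvMax.inv_mulVec_mulVec, Matrix.mulVec_zero] at h2
  have := congrFun h2 a
  simp [hne', hne b] at this

namespace Shape

variable {m : GL (Fin n) F} {π : Fin n → Fin n} {c : Fin n → F} (S : Shape m π c)

include S

theorem apply (x : Fin n → F) (j : Fin n) :
    ((m : Matrix (Fin n) (Fin n) F) *ᵥ x) (π j) = c j * x j := by
  conv_lhs => rw [pi_eq_sum_univ' x]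
  rw [Matrix.mulVec_sum, Finset.sum_apply, Finset.sum_eq_single j]
  · rw [Matrix.mulVec_smul, S.map]
    simp [mul_comm]
  · intro i _ hi
    rw [Matrix.mulVec_smul, S.map]
    simp [Pi.single_eq_of_ne (fun e => hi (S.inj e).symm : π j ≠ π i)]
  · simp

theorem sq_fix {α β : F}
    (h : ∀ x, (m : Matrix (Fin n) (Fin n) F) *ᵥ ((m : Matrix (Fin n) (Fin n) F) *ᵥ x) =
      (α + β) • ((m : Matrix (Fin n) (Fin n) F) *ᵥ x) - (α * β) • x) (j : Fin n) :
    π (π j) = j ∧ (α + β ≠ 0 → π j = j) := by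
  by_cases h1 : π j = j
  · exact ⟨by rw [h1, h1], fun _ => h1⟩
  have h2 : π (π j) ≠ π j := fun e => h1 (S.inj e)
  have e := h (Pi.single j 1)
  rw [S.map, Matrix.mulVec_smul, S.map, smul_smul, smul_smul] at e
  have hjj : π (π j) = j := by
    by_contra h3
    have := congrFun e (π (π j))
    simp [h2, h3, S.ne] at this
  refine ⟨hjj, fun hab => absurd ?_ hab⟩
  have := congrFun e (π j)
  simp [Ne.symm h2, h1, S.ne] at this
  exact this

theorem cube_fix {s u r : F}
    (h : ∀ x, (m : Matrix (Fin n) (Fin n) F) *ᵥ ((m : Matrix (Fin n) (Fin n) F) *ᵥ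
      ((m : Matrix (Fin n) (Fin n) F) *ᵥ x)) =
      s • ((m : Matrix (Fin n) (Fin n) F) *ᵥ ((m : Matrix (Fin n) (Fin n) F) *ᵥ x)) -
        u • ((m : Matrix (Fin n) (Fin n) F) *ᵥ x) + r • x) (hs : s ≠ 0) (j : Fin n) :
    π (π j) = j ∧ (s * u ≠ r → π j = j) := by
  by_cases h1 : π j = j
  · exact ⟨by rw [h1, h1], fun _ => h1⟩
  have h2 : π (π j) ≠ π j := fun e => h1 (S.inj e)
  have e := h (Pi.single j 1)
  simp only [S.map, Matrix.mulVec_smul, smul_smul] at e
  by_cases hjj : π (π j) = j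
  · refine ⟨hjj, fun hne => absurd ?_ hne⟩
    have e1 := congrFun e (π j)
    have e2 := congrFun e j
    rw [hjj] at e1 e2
    simp [h1, Ne.symm h1] at e1 e2
    have hκ : c j * c (π j) = -u := by
      refine mul_left_cancel₀ (S.ne j) ?_
      linear_combination e1
    linear_combination e2 + s * hκ
  exfalso
  have h3 : π (π (π j)) ≠ π (π j) := fun e => h2 (S.inj e)
  have h4 : π (π (π j)) ≠ π j := fun e => hjj (S.inj e)
  by_cases h5 : π (π (π j)) = j
  · have e1 := congrFun e (π (π j))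
    rw [h5] at e1
    simp [hjj, S.ne, hs, h2] at e1
  · have e1 := congrFun e (π (π (π j)))
    simp [h3, h4, h5, S.ne] at e1

theorem restrict {w : Fin n → F} {μ : F} (hw : (m : Matrix (Fin n) (Fin n) F) *ᵥ w = μ • w)
    (T : Fin n → Prop) [DecidablePred T] (hT : ∀ j, T (π j) ↔ T j) :
    (m : Matrix (Fin n) (Fin n) F) *ᵥ (fun i => if T i then w i else 0) =
      μ • fun i => if T i then w i else 0 := by
  funext i
  obtain ⟨j, rfl⟩ := (Finite.injective_iff_surjective.1 S.inj) i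
  rw [S.apply, Pi.smul_apply, smul_eq_mul]
  by_cases h : T j
  · simp only [h, (hT j).2 h, ↓reduceIte]
    rw [← S.apply, hw]
    rfl
  · simp [h, mt (hT j).1 h]

theorem single_of_fix {w : Fin n → F} {μ : F} (hw : (m : Matrix (Fin n) (Fin n) F) *ᵥ w = μ • w)
    (heig : ∀ x, (m : Matrix (Fin n) (Fin n) F) *ᵥ x = μ • x → ∃ s : F, x = s • w)
    {j : Fin n} (hj : π j = j) (hwj : w j ≠ 0) : ∀ i, i ≠ j → w i = 0 := by
  classical
  obtain ⟨s, hs⟩ := heig _ (S.restrict hw (fun i => i = j) fun i => ⟨fun e => S.inj (e.trans hj.symm),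
    fun e => by rw [e, hj]⟩)
  intro i hi
  have h1 := congrFun hs j
  have h2 := congrFun hs i
  simp [hwj] at h1
  simp [hi] at h2
  rcases h2 with e | e
  · exact absurd e (fun e' => by simp [e'] at h1)
  · exact e

theorem pair_of_inv {w : Fin n → F} {μ : F} (hw : (m : Matrix (Fin n) (Fin n) F) *ᵥ w = μ • w)
    (heig : ∀ x, (m : Matrix (Fin n) (Fin n) F) *ᵥ x = μ • x → ∃ s : F, x = s • w)
    {j : Fin n} (hj : π (π j) = j) (hwj : w j ≠ 0) : ∀ i, i ≠ j → i ≠ π j → w i = 0 := by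
  classical
  obtain ⟨s, hs⟩ := heig _ (S.restrict hw (fun i => i = j ∨ i = π j) fun i => by
    constructor
    · rintro (e | e)
      · exact Or.inr (S.inj (e.trans hj.symm))
      · exact Or.inl (S.inj e)
    · rintro (e | e)
      · exact Or.inr (by rw [e])
      · exact Or.inl (by rw [e, hj]))
  intro i hi hi'
  have h1 := congrFun hs j
  have h2 := congrFun hs i
  simp [hwj] at h1
  simp [hi, hi'] at h2
  rcases h2 with e | e
  · exact absurd e (fun e' => by simp [e'] at h1)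
  · exact e

end Shape

theorem conj_mulVec (g : GL (Fin n) F) (u : Fin n → F) (hu : ∀ i, u i ≠ 0) (x : Fin n → F) :
    ((g⁻¹ * dia u hu * g : GL (Fin n) F) : Matrix (Fin n) (Fin n) F) *ᵥ x =
      ((g⁻¹ : GL (Fin n) F) : Matrix (Fin n) (Fin n) F) *ᵥ
        fun i => u i * ((g : Matrix (Fin n) (Fin n) F) *ᵥ x) i := by
  rw [Units.val_mul, Units.val_mul, ← Matrix.mulVec_mulVec, ← Matrix.mulVec_mulVec, dia_mulVec]

theorem eig_conj (g : GL (Fin n) F) (u : Fin n → F) (hu : ∀ i, u i ≠ 0) {c : Fin n}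
    (hc : ∀ r, u r = u c → r = c) :
    ((g⁻¹ * dia u hu * g : GL (Fin n) F) : Matrix (Fin n) (Fin n) F) *ᵥ
        (((g⁻¹ : GL (Fin n) F) : Matrix (Fin n) (Fin n) F) *ᵥ Pi.single c 1) =
      u c • (((g⁻¹ : GL (Fin n) F) : Matrix (Fin n) (Fin n) F) *ᵥ Pi.single c 1) ∧
    ∀ x, ((g⁻¹ * dia u hu * g : GL (Fin n) F) : Matrix (Fin n) (Fin n) F) *ᵥ x = u c • x →
      ∃ s : F, x = s • (((g⁻¹ : GL (Fin n) F) : Matrix (Fin n) (Fin n) F) *ᵥ Pi.single c 1) := by
  refine ⟨?_, fun x hx => ?_⟩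
  · rw [conj_mulVec, TransvMax.mulVec_inv_mulVec, ← Matrix.mulVec_smul]
    congr 1
    funext i
    by_cases h : i = c
    · subst h; simp
    · simp [h]
  · rw [conj_mulVec] at hx
    have h := congrArg ((g : Matrix (Fin n) (Fin n) F) *ᵥ ·) hx
    simp only [TransvMax.mulVec_inv_mulVec, Matrix.mulVec_smul] at h
    refine ⟨((g : Matrix (Fin n) (Fin n) F) *ᵥ x) c, ?_⟩
    rw [← Matrix.mulVec_smul, ← Single.eq (a := c) fun i hi => ?_, TransvMax.inv_mulVec_mulVec]
    have h1 := congrFun h i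
    rw [Pi.smul_apply, smul_eq_mul] at h1
    by_contra hne
    exact hi (hc i (mul_right_cancel₀ hne h1))

theorem quad_conj (g : GL (Fin n) F) (u : Fin n → F) (hu : ∀ i, u i ≠ 0) {α β : F}
    (h : ∀ i, u i = α ∨ u i = β) (x : Fin n → F) :
    ((g⁻¹ * dia u hu * g : GL (Fin n) F) : Matrix (Fin n) (Fin n) F) *ᵥ
        (((g⁻¹ * dia u hu * g : GL (Fin n) F) : Matrix (Fin n) (Fin n) F) *ᵥ x) =
      (α + β) • (((g⁻¹ * dia u hu * g : GL (Fin n) F) : Matrix (Fin n) (Fin n) F) *ᵥ x) -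
        (α * β) • x := by
  rw [conj_mulVec, conj_mulVec, TransvMax.mulVec_inv_mulVec]
  conv_rhs => arg 2; rw [← TransvMax.inv_mulVec_mulVec g x]
  rw [← Matrix.mulVec_smul, ← Matrix.mulVec_smul, ← Matrix.mulVec_sub]
  congr 1
  funext i
  simp only [Pi.sub_apply, Pi.smul_apply, smul_eq_mul]
  rcases h i with e | e <;> rw [e] <;> ring

theorem cube_conj (g : GL (Fin n) F) (u : Fin n → F) (hu : ∀ i, u i ≠ 0) {α β γ : F}
    (h : ∀ i, u i = α ∨ u i = β ∨ u i = γ) (x : Fin n → F) :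
    ((g⁻¹ * dia u hu * g : GL (Fin n) F) : Matrix (Fin n) (Fin n) F) *ᵥ
        (((g⁻¹ * dia u hu * g : GL (Fin n) F) : Matrix (Fin n) (Fin n) F) *ᵥ
          (((g⁻¹ * dia u hu * g : GL (Fin n) F) : Matrix (Fin n) (Fin n) F) *ᵥ x)) =
      (α + β + γ) • (((g⁻¹ * dia u hu * g : GL (Fin n) F) : Matrix (Fin n) (Fin n) F) *ᵥ
          (((g⁻¹ * dia u hu * g : GL (Fin n) F) : Matrix (Fin n) (Fin n) F) *ᵥ x)) -
        (α * β + α * γ + β * γ) •
          (((g⁻¹ * dia u hu * g : GL (Fin n) F) : Matrix (Fin n) (Fin n) F) *ᵥ x) +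
        (α * β * γ) • x := by
  simp only [conj_mulVec, TransvMax.mulVec_inv_mulVec]
  conv_rhs => arg 2; rw [← TransvMax.inv_mulVec_mulVec g x]
  rw [← Matrix.mulVec_smul, ← Matrix.mulVec_smul, ← Matrix.mulVec_smul, ← Matrix.mulVec_sub,
    ← Matrix.mulVec_add]
  congr 1
  funext i
  simp only [Pi.sub_apply, Pi.add_apply, Pi.smul_apply, smul_eq_mul]
  rcases h i with e | e | e <;> rw [e] <;> ring

theorem exists_pair_values (c d : Fin n) (hcd : c ≠ d) {x : F} (hx : x * σ x = 1) :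
    ∃ u : Fin n → F, (∀ i, u i * σ (u i) = 1) ∧ ∏ i, u i = 1 ∧ u c = x ∧ u d = x⁻¹ ∧
      ∀ i, i ≠ c → i ≠ d → u i = 1 := by
  refine ⟨fun i => if i = c then x else if i = d then x⁻¹ else 1, fun i => ?_, ?_, by simp,
    by simp [hcd.symm], fun i h1 h2 => by simp [h1, h2]⟩
  · dsimp only
    split_ifs
    · exact hx
    · rw [map_inv₀, ← mul_inv, hx, inv_one]
    · simp
  · rw [Fintype.prod_eq_mul c d hcd fun i hi => by simp [hi.1, hi.2]]
    simp [hcd.symm, mul_inv_cancel₀ (fun e => by simp [e] at hx : x ≠ 0)]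

variable [Fintype F]

namespace Over

variable (O : Over q σ blk K)

include O

/-- A vector in the orbit of the coordinate vectors. -/
def Orb (O : Over q σ blk K) (v : Fin n → F) : Prop :=
  ∃ g ∈ K, ∃ a, (g : Matrix (Fin n) (Fin n) F) *ᵥ Pi.single a 1 = v

/-- Every element of the group fixing a coordinate line is monomial. -/
def AllFix (O : Over q σ blk K) : Prop :=
  ∀ g ∈ K, ∀ a, Single ((g : Matrix (Fin n) (Fin n) F) *ᵥ Pi.single a 1) → Mono g

theorem inv_entry {g : GL (Fin n) F} (hg : g ∈ K) (c j : Fin n) :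
    (((g⁻¹ : GL (Fin n) F) : Matrix (Fin n) (Fin n) F) *ᵥ Pi.single c 1) j =
      σ (((g : Matrix (Fin n) (Fin n) F) *ᵥ Pi.single j 1) c) := by
  have h := iso_of_mem (O.le hg) (((g⁻¹ : GL (Fin n) F) : Matrix (Fin n) (Fin n) F) *ᵥ Pi.single c 1)
    (Pi.single j 1)
  rw [TransvMax.mulVec_inv_mulVec, O.sq.herm_apply, O.sq.herm_apply,
    Finset.sum_eq_single c (fun i _ hi => by simp [hi]) (by simp),
    Finset.sum_eq_single j (fun i _ hi => by simp [hi]) (by simp)] at h
  simpa using h.symm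

theorem conj_mono (hA : O.AllFix) {g h : GL (Fin n) F} (hg : g ∈ K) (hh : h ∈ K) {a : Fin n} {s : F}
    (hfix : (h : Matrix (Fin n) (Fin n) F) *ᵥ ((g : Matrix (Fin n) (Fin n) F) *ᵥ Pi.single a 1) =
      s • ((g : Matrix (Fin n) (Fin n) F) *ᵥ Pi.single a 1)) : Mono (g⁻¹ * h * g) := by
  refine hA _ (K.mul_mem (K.mul_mem (K.inv_mem hg) hh) hg) a ⟨a, fun i hi => ?_⟩
  rw [Units.val_mul, Units.val_mul, ← Matrix.mulVec_mulVec, ← Matrix.mulVec_mulVec, hfix,
    Matrix.mulVec_smul, TransvMax.inv_mulVec_mulVec]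
  simp [hi]

theorem mono_of_inv (hA : O.AllFix) {g : GL (Fin n) F} (hg : g ∈ K) {c : Fin n}
    (h : Single (((g⁻¹ : GL (Fin n) F) : Matrix (Fin n) (Fin n) F) *ᵥ Pi.single c 1)) : Mono g := by
  obtain ⟨p, hp⟩ := h
  have e := Single.eq hp
  set s := (((g⁻¹ : GL (Fin n) F) : Matrix (Fin n) (Fin n) F) *ᵥ Pi.single c 1) p
  have hs : s ≠ 0 := fun hs => by
    rw [hs, zero_smul] at e
    have h' := congrArg ((g : Matrix (Fin n) (Fin n) F) *ᵥ ·) e
    simp only [TransvMax.mulVec_inv_mulVec, Matrix.mulVec_zero] at h'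
    exact one_ne_zero (Pi.single_eq_zero_iff.1 h')
  refine hA g hg p ⟨c, fun i hi => ?_⟩
  have h' := congrArg ((g : Matrix (Fin n) (Fin n) F) *ᵥ ·) e
  simp only [TransvMax.mulVec_inv_mulVec, Matrix.mulVec_smul] at h'
  have := congrFun h' i
  simpa [hi, hs] using this

theorem three_or_four (h3 : 3 ≤ q) : ∃ l : F, l * σ l = 1 ∧ 1 + l + l⁻¹ ≠ 0 ∧ l ≠ 1 ∧ l⁻¹ ≠ l ∧
    ((1 + l + l⁻¹) * (1 + l + l⁻¹) ≠ 1 ∨ l * l = -1) := by
  obtain ⟨g, hg, hgk⟩ := O.sq.exists_gen
  have hg0 := Sq.unit_ne_zero hg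
  have h1 := hgk 1 (by norm_num) (by omega)
  have h2 := hgk 2 (by norm_num) (by omega)
  have h3' := hgk 3 (by norm_num) h3
  refine ⟨g, hg, fun e => h3' ?_, fun e => h1 (by rw [e, one_pow]), fun e => h2 ?_, ?_⟩
  · field_simp at e
    linear_combination (g - 1) * e
  · field_simp at e
    linear_combination -e
  · by_cases hq : q = 3
    · right
      subst hq
      have e4 : g ^ 4 = 1 := by
        rw [pow_succ', ← O.sq.pow, hg]
      have : (g ^ 2 - 1) * (g ^ 2 + 1) = 0 := by linear_combination e4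
      linear_combination (mul_eq_zero.1 this).resolve_left (sub_ne_zero.2 h2)
    · left
      intro e
      have h4 := hgk 4 (by norm_num) (by omega)
      rcases mul_self_eq_one_iff.1 e with e | e <;> field_simp at e
      · exact h4 (by linear_combination (g ^ 2 - 1) * e)
      · have : (g + 1) * (g + 1) = 0 := by linear_combination e
        rw [eq_neg_of_add_eq_zero_left (mul_self_eq_zero.1 this)] at h2
        exact h2 (by norm_num)

/-- An orbit vector with three zeros is on a coordinate line. -/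
theorem single_of_three (h3 : 3 ≤ q) (hA : O.AllFix) {v : Fin n → F} (hv : O.Orb v) {c d e : Fin n}
    (hcd : c ≠ d) (hce : c ≠ e) (hde : d ≠ e) (hc : v c = 0) (hd : v d = 0) (he : v e = 0) :
    Single v := by
  obtain ⟨g, hg, a, rfl⟩ := hv
  obtain ⟨l, hl, hs, hl1, hll, hcase⟩ := O.three_or_four h3
  have hl0 := Sq.unit_ne_zero hl
  suffices Single (((g⁻¹ : GL (Fin n) F) : Matrix (Fin n) (Fin n) F) *ᵥ Pi.single c 1) from
    O.mono_of_inv hA hg this a
  set w := ((g⁻¹ : GL (Fin n) F) : Matrix (Fin n) (Fin n) F) *ᵥ Pi.single c 1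
  have key : ∀ {d}, c ≠ d → ((g : Matrix (Fin n) (Fin n) F) *ᵥ Pi.single a 1) d = 0 → ¬ Single w →
      ∀ j, w j ≠ 0 → ∃ j', (∀ i, i ≠ j → i ≠ j' → w i = 0) ∧ ∃ s : F,
        (fun i => if i = j then w j else if i = j' then -w j' else 0) =
          s • (((g⁻¹ : GL (Fin n) F) : Matrix (Fin n) (Fin n) F) *ᵥ Pi.single d 1) := by
    intro d hcd hd hns j hj
    obtain ⟨u, hu, hu1, huc, hud, huo⟩ := exists_pair_values (σ := σ) c d hcd hl
    have hu0 : ∀ i, u i ≠ 0 := fun i => Sq.unit_ne_zero (hu i)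
    set m := g⁻¹ * dia u hu0 * g with hm
    have hmono : Mono m := O.conj_mono hA hg (O.dia_mem hu hu1) (s := 1) (a := a) (by
      rw [dia_mulVec, one_smul]
      funext i
      by_cases h1 : i = c
      · rw [h1, hc, mul_zero]
      by_cases h2 : i = d
      · rw [h2, hd, mul_zero]
      · rw [huo i h1 h2, one_mul])
    obtain ⟨π, cc, S⟩ := hmono.shape
    have hval : ∀ i, u i = 1 ∨ u i = l ∨ u i = l⁻¹ := fun i => by
      by_cases h1 : i = c
      · exact Or.inr (Or.inl (h1 ▸ huc))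
      by_cases h2 : i = d
      · exact Or.inr (Or.inr (h2 ▸ hud))
      · exact Or.inl (huo i h1 h2)
    have hcube := S.cube_fix (cube_conj g u hu0 hval) hs
    have hinv1 : l⁻¹ ≠ 1 := fun e => hl1 (inv_eq_one.1 e)
    obtain ⟨heig1, heig2⟩ := eig_conj g u hu0 (c := c) fun r hr => by
      by_contra h1
      by_cases h2 : r = d
      · rw [h2, hud, huc] at hr; exact hll hr
      · rw [huo r h1 h2, huc] at hr; exact hl1 hr.symm
    rw [huc] at heig1 heig2
    have hfix : π j ≠ j := fun e => hns ⟨j, S.single_of_fix heig1 heig2 e hj⟩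
    have hl2 : l * l = -1 := hcase.resolve_left fun hne => hfix ((hcube j).2 fun e => hne (by
      field_simp at e ⊢
      linear_combination e))
    have hjj := (hcube j).1
    have hsupp := S.pair_of_inv heig1 heig2 hjj hj
    refine ⟨π j, hsupp, ?_⟩
    obtain ⟨-, heig2'⟩ := eig_conj g u hu0 (c := d) fun r hr => by
      by_contra h1
      by_cases h2 : r = c
      · rw [h2, hud, huc] at hr; exact hll hr.symm
      · rw [huo r h2 h1, hud] at hr; exact hinv1 hr.symm
    rw [hud, show l⁻¹ = -l from inv_eq_of_mul_eq_one_right (by linear_combination -hl2)] at heig2'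
    refine heig2' _ (funext fun i => ?_)
    obtain ⟨i, rfl⟩ := (Finite.injective_iff_surjective.1 S.inj) i
    rw [S.apply, Pi.smul_apply, smul_eq_mul]
    have e1 : cc j * w j = l * w (π j) := by
      rw [← S.apply]; exact congrFun heig1 (π j)
    have e2 : cc (π j) * w (π j) = l * w j := by
      rw [← S.apply, hjj]; exact congrFun heig1 j
    by_cases h1 : i = j
    · subst h1
      simp only [hfix, ↓reduceIte]
      linear_combination e1
    by_cases h2 : i = π j
    · subst h2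
      simp only [hjj, hfix, ↓reduceIte]
      linear_combination -e2
    · have h3 : π i ≠ j := fun e => h2 (S.inj (e.trans hjj.symm))
      have h4 : π i ≠ π j := fun e => h1 (S.inj e)
      simp [h1, h2, h3, h4]
  by_contra hns
  obtain ⟨j, hj⟩ : ∃ j, w j ≠ 0 := by
    by_contra hc
    push Not at hc
    exact hns ⟨c, fun i _ => hc i⟩
  obtain ⟨j₁, hj₁, s₁, e₁⟩ := key hcd hd hns j hj
  obtain ⟨j₂, hj₂, s₂, e₂⟩ := key hce he hns j hj
  have hne : w j₁ ≠ 0 ∧ j₁ ≠ j := by
    by_contra hc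
    refine hns ⟨j, fun i hi => ?_⟩
    by_cases h : i = j₁
    · subst h
      by_contra h0
      exact hc ⟨h0, hi⟩
    · exact hj₁ i hi h
  have hjj : j₁ = j₂ := by
    by_contra h
    exact hne.1 (hj₂ j₁ hne.2 h)
  subst hjj
  rw [e₁] at e₂
  have h' := congrArg ((g : Matrix (Fin n) (Fin n) F) *ᵥ ·) e₂
  simp only [Matrix.mulVec_smul, TransvMax.mulVec_inv_mulVec] at h'
  have h1 : s₁ = 0 := by
    have := congrFun h' d
    simpa [hde] using this
  have h2 := congrFun e₁ j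
  simp [h1, hj] at h2

theorem single_of_many (h3 : 3 ≤ q) (hA : O.AllFix) {v : Fin n → F} (hv : O.Orb v)
    (s : Finset (Fin n)) (hs : s.card ≤ 4) (h : ∀ i, i ∉ s → v i = 0) : Single v := by
  obtain ⟨T, hT, hTc⟩ := Finset.exists_subset_card_eq (s := Finset.univ \ s) (n := 3) (by
    rw [Finset.card_sdiff_of_subset (Finset.subset_univ _), Finset.card_univ, Fintype.card_fin]
    have := O.dim
    omega)
  obtain ⟨c, d, e, hcd, hce, hde, rfl⟩ := Finset.card_eq_three.1 hTc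
  exact O.single_of_three h3 hA hv hcd hce hde (h c (Finset.mem_sdiff.1 (hT (by simp))).2)
    (h d (Finset.mem_sdiff.1 (hT (by simp))).2) (h e (Finset.mem_sdiff.1 (hT (by simp))).2)

theorem mono_of_inv_small (h3 : 3 ≤ q) (hA : O.AllFix) {g : GL (Fin n) F} (hg : g ∈ K) {c : Fin n}
    (s : Finset (Fin n)) (hs : s.card ≤ 4)
    (h : ∀ i, i ∉ s → (((g⁻¹ : GL (Fin n) F) : Matrix (Fin n) (Fin n) F) *ᵥ Pi.single c 1) i = 0) :
    Mono g :=
  O.mono_of_inv hA hg (O.single_of_many h3 hA ⟨g⁻¹, K.inv_mem hg, c, rfl⟩ s hs h)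

/-- An orbit vector with two zeros is on a coordinate line. -/
theorem single_of_two (h3 : 3 ≤ q) (hA : O.AllFix) {v : Fin n → F} (hv : O.Orb v) {c d : Fin n}
    (hcd : c ≠ d) (hc : v c = 0) (hd : v d = 0) : Single v := by
  obtain ⟨g, hg, a, rfl⟩ := hv
  obtain ⟨l, hl, hs, hl1, hll, -⟩ := O.three_or_four h3
  obtain ⟨u, hu, hu1, huc, hud, huo⟩ := exists_pair_values (σ := σ) c d hcd hl
  have hu0 : ∀ i, u i ≠ 0 := fun i => Sq.unit_ne_zero (hu i)
  have hmono : Mono (g⁻¹ * dia u hu0 * g) := O.conj_mono hA hg (O.dia_mem hu hu1) (s := 1) (a := a) (by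
    rw [dia_mulVec, one_smul]
    funext i
    by_cases h1 : i = c
    · rw [h1, hc, mul_zero]
    by_cases h2 : i = d
    · rw [h2, hd, mul_zero]
    · rw [huo i h1 h2, one_mul])
  obtain ⟨π, cc, S⟩ := hmono.shape
  have hval : ∀ i, u i = 1 ∨ u i = l ∨ u i = l⁻¹ := fun i => by
    by_cases h1 : i = c
    · exact Or.inr (Or.inl (h1 ▸ huc))
    by_cases h2 : i = d
    · exact Or.inr (Or.inr (h2 ▸ hud))
    · exact Or.inl (huo i h1 h2)
  obtain ⟨heig1, heig2⟩ := eig_conj g u hu0 (c := c) fun r hr => by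
    by_contra h1
    by_cases h2 : r = d
    · rw [h2, hud, huc] at hr; exact hll hr
    · rw [huo r h1 h2, huc] at hr; exact hl1 hr.symm
  set w := ((g⁻¹ : GL (Fin n) F) : Matrix (Fin n) (Fin n) F) *ᵥ Pi.single c 1 with hw
  by_cases hz : ∀ j, w j = 0
  · exact O.mono_of_inv_small h3 hA hg (c := c) ∅ (by simp) (fun i _ => hz i) a
  push Not at hz
  obtain ⟨j, hj⟩ := hz
  have hjj := (S.cube_fix (cube_conj g u hu0 hval) hs j).1
  refine O.mono_of_inv_small h3 hA hg (c := c) {j, π j}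
    (Finset.card_le_two.trans (by norm_num)) (fun i hi => ?_) a
  simp only [Finset.mem_insert, Finset.mem_singleton, not_or] at hi
  exact S.pair_of_inv heig1 heig2 hjj hj i hi.1 hi.2

end Over

end Cfsg.Agent.UFrame
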