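import Cfsg.Agent.Lib.TransvMax.UFrame.Torus
import Cfsg.Agent.Lib.TransvMax.UnitaryTools

/-!
Proper overgroups of the stabiliser of a coordinate decomposition contain all isotropic centres.
-/

set_option autoImplicit false

namespace Cfsg.Agent.UFrame

open scoped Matrix MatrixGroups
open Cfsg.Agent

variable {F : Type*} [Field F] {n q t : ℕ} {σ : F ≃+* F} {blk : Fin n → Fin t}
  {K : Subgroup (GL (Fin n) F)}

theorem mulVec_single_apply (g : GL (Fin n) F) (i j : Fin n) :
    ((g : Matrix (Fin n) (Fin n) F) *ᵥ Pi.single j 1) i = (g : Matrix (Fin n) (Fin n) F) i j := by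
  rw [Matrix.mulVec_single_one]
  rfl

/-- Not more than `m` independent columns fit in `m` coordinates. -/
theorem card_cols_le (g : GL (Fin n) F) (S T : Finset (Fin n))
    (h : ∀ j ∈ S, ∀ i, i ∉ T → ((g : Matrix (Fin n) (Fin n) F) *ᵥ Pi.single j 1) i = 0) :
    S.card ≤ T.card := by
  classical
  let ι : (S → F) →ₗ[F] (Fin n → F) := Fintype.linearCombination F fun j : S => Pi.single (j : Fin n) 1
  let L : (S → F) →ₗ[F] (T → F) :=
    (LinearMap.pi fun r : T => LinearMap.proj (r : Fin n)).comp
      ((Matrix.toLin' (g : Matrix (Fin n) (Fin n) F)).comp ι)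
  have hL : Function.Injective L := by
    rw [injective_iff_map_eq_zero]
    intro c hc
    have h0 : (g : Matrix (Fin n) (Fin n) F) *ᵥ ι c = 0 := funext fun i => by
      by_cases hi : i ∈ T
      · exact congrFun hc ⟨i, hi⟩
      · simp only [ι, Fintype.linearCombination_apply, Matrix.mulVec_sum, Finset.sum_apply,
          Matrix.mulVec_smul, Pi.smul_apply]
        exact Finset.sum_eq_zero fun j _ => by rw [h j j.2 i hi, smul_zero]
    have h1 := congrArg (((g⁻¹ : GL (Fin n) F) : Matrix (Fin n) (Fin n) F) *ᵥ ·) h0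
    simp only [TransvMax.inv_mulVec_mulVec, Matrix.mulVec_zero] at h1
    funext j
    have h2 := congrFun h1 j
    simp only [ι, Fintype.linearCombination_apply, Finset.sum_apply, Pi.smul_apply, smul_eq_mul] at h2
    rw [Finset.sum_eq_single j (fun b _ hb => by
      rw [Pi.single_eq_of_ne (fun e => hb (Subtype.ext e.symm)), mul_zero]) (by simp),
      Pi.single_eq_same, mul_one] at h2
    exact h2
  have := LinearMap.finrank_le_finrank_of_injective hL
  simpa using this

theorem blockPerm_of_mono (hblk : Function.Bijective blk) {g : GL (Fin n) F} (hg : Mono g) :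
    BlockPerm blk g := by
  obtain ⟨π, c, S⟩ := hg.shape
  let e := Equiv.ofBijective blk hblk
  refine ⟨e.symm.trans ((Equiv.ofBijective π (Finite.injective_iff_bijective.1 S.inj)).trans e),
    fun i j h => ?_⟩
  have hi : i = π j := by
    by_contra hne
    rw [← mulVec_single_apply, S.map] at h
    simp [hne] at h
  show blk i = e (π (e.symm (blk j)))
  rw [show e.symm (blk j) = j from e.symm_apply_apply j, hi]
  rfl

variable [Fintype F]

namespace Over

variable (O : Over q σ blk K)

include O

theorem supp_of_iso {z : Fin n → F} (hz : O.Cen z) {a : Fin n} (ha : z a ≠ 0) :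
    ∃ b, b ≠ a ∧ z b ≠ 0 := by
  by_contra hc
  push Not at hc
  have h := O.cen_iso hz
  rw [Finset.sum_eq_single a (fun b _ hb => by rw [hc b hb, zero_mul]) (by simp)] at h
  exact mul_ne_zero ha ((map_ne_zero σ).2 ha) h

/-- Some centre meets two blocks, when blocks are larger than points. -/
theorem exists_crossing {g : GL (Fin n) F} (hg : g ∈ K) (hgn : ¬ BlockPerm blk g)
    (h2 : ∃ a b : Fin n, a ≠ b ∧ blk a = blk b) :
    ∃ v a b, O.Cen v ∧ blk a ≠ blk b ∧ v a ≠ 0 ∧ v b ≠ 0 := by
  classical
  by_contra hcon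
  push Not at hcon
  obtain ⟨μ, hμ, hμ'⟩ := O.sq.exists_nonreal
  have hμ1 : μ ≠ 1 := fun e => hμ' (by rw [e, map_one])
  obtain ⟨r, hr⟩ := TransvMax.exists_norm_eq O.sq.ne_refl O.sq.invol (a := (-1 : F)) (by simp)
  have hr0 : r ≠ 0 := fun e => by simp [e] at hr
  set c : Fin n → Fin n → F := fun j i => ((g : Matrix (Fin n) (Fin n) F) *ᵥ Pi.single j 1) i with hc
  have hcol : ∀ j, ∃ i, c j i ≠ 0 := fun j => by
    by_contra h
    push Not at h
    have h1 := congrArg (((g⁻¹ : GL (Fin n) F) : Matrix (Fin n) (Fin n) F) *ᵥ ·)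
      (funext h : (g : Matrix (Fin n) (Fin n) F) *ᵥ Pi.single j 1 = 0)
    simp only [TransvMax.inv_mulVec_mulVec, Matrix.mulVec_zero] at h1
    exact one_ne_zero (Pi.single_eq_zero_iff.1 h1)
  have hpair : ∀ a b, a ≠ b → blk a = blk b → ∀ i i', c a i ≠ 0 ∨ c b i ≠ 0 →
      c a i' ≠ 0 ∨ c b i' ≠ 0 → blk i = blk i' := by
    intro a b hab hblk
    have hz : ∀ l : F, l * σ l = 1 →
        O.Cen ((g : Matrix (Fin n) (Fin n) F) *ᵥ (Pi.single a 1 + (r * l) • Pi.single b 1)) := by
      intro l hl
      refine O.cen_map (O.cen_mem ?_ fun i j hi hj => ?_) hg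
      · rw [O.sq.herm_apply, sum_pair hab (fun i h1 h2 => by simp [h1, h2])]
        simp [hab, hab.symm, map_mul]
        linear_combination (l * σ l) * hr - hl
      · have h : ∀ i, (Pi.single a (1 : F) + (r * l) • Pi.single b 1 : Fin n → F) i ≠ 0 →
            blk i = blk a := fun i hi => by
          by_cases h1 : i = a
          · rw [h1]
          by_cases h2 : i = b
          · rw [h2, hblk]
          simp [h1, h2] at hi
        rw [h i hi, h j hj]
    set z : F → Fin n → F := fun l i => c a i + r * l * c b i with hzdef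
    have hzC : ∀ l : F, l * σ l = 1 → O.Cen (z l) := fun l hl => by
      have := hz l hl
      rw [Matrix.mulVec_add, Matrix.mulVec_smul] at this
      exact this
    have hf := O.sq.unitary n
    have hne : Cfsg.hermForm n F q (z 1) (z μ) ≠ 0 := by
      have e : ∀ l, z l = (g : Matrix (Fin n) (Fin n) F) *ᵥ (Pi.single a 1 + (r * l) • Pi.single b 1) :=
        fun l => by rw [Matrix.mulVec_add, Matrix.mulVec_smul]; rfl
      rw [e, e, iso_of_mem (O.le hg), O.sq.herm_apply,
        sum_pair hab (fun i h1 h2 => by simp [h1, h2])]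
      simp [hab, hab.symm, map_mul]
      intro e
      refine hμ1 ?_
      have e' : σ μ = 1 := by linear_combination -e + σ μ * hr
      simpa [O.sq.invol] using congrArg σ e'
    obtain ⟨i₀, hi₀, hi₀'⟩ : ∃ i, z 1 i ≠ 0 ∧ z μ i ≠ 0 := by
      by_contra h
      push Not at h
      refine hne ?_
      rw [O.sq.herm_apply]
      refine Finset.sum_eq_zero fun i _ => ?_
      by_cases h1 : z 1 i = 0
      · rw [h1, zero_mul]
      · rw [h i h1, map_zero, mul_zero]
    have key : ∀ i, z 1 i ≠ 0 ∨ z μ i ≠ 0 → blk i = blk i₀ := by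
      rintro i (h | h) <;> by_contra hb
      · exact hi₀ (hcon _ i i₀ (hzC 1 (by simp)) hb h)
      · exact hi₀' (hcon _ i i₀ (hzC μ hμ) hb h)
    have hcol' : ∀ i, c a i ≠ 0 ∨ c b i ≠ 0 → blk i = blk i₀ := fun i hi => by
      refine key i ?_
      by_contra h
      push Not at h
      simp only [hzdef] at h
      have hb : c b i = 0 := (mul_eq_zero.1 (show (μ - 1) * (r * c b i) = 0 by
        linear_combination h.2 - h.1)).resolve_left (sub_ne_zero.2 hμ1) |> mul_eq_zero.1 |>.resolve_left hr0
      rw [hb, mul_zero, add_zero] at h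
      exact hi.elim (fun h' => h' h.1) (fun h' => h' hb)
    intro i i' hi hi'
    rw [hcol' i hi, hcol' i' hi']
  choose s hs using hcol
  have hsame : ∀ a i, c a i ≠ 0 → blk i = blk (s a) := fun a i hi => by
    obtain ⟨b, hba, hb⟩ := O.exists_partner h2 a
    exact hpair a b hba.symm hb.symm _ _ (Or.inl hi) (Or.inl (hs a))
  have hblkeq : ∀ a b, blk a = blk b → blk (s a) = blk (s b) := fun a b h => by
    by_cases e : a = b
    · rw [e]
    exact hpair a b e h _ _ (Or.inl (hs a)) (Or.inr (hs b))
  choose sec hsec using O.blk_surj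
  let T : Fin t → Fin t := fun A => blk (s (sec A))
  have hT : ∀ i j, c j i ≠ 0 → blk i = T (blk j) := fun i j h => by
    rw [hsame j i h]
    exact hblkeq _ _ (hsec (blk j)).symm
  have hinj : Function.Injective T := fun A B hAB => by
    by_contra hne
    obtain ⟨k, hk, hsize⟩ := O.size
    have h := card_cols_le g ((Finset.univ.filter fun i => blk i = A) ∪ Finset.univ.filter fun i => blk i = B)
      (Finset.univ.filter fun i => blk i = T A) fun j hj i hi => by
      simp only [Finset.mem_union, Finset.mem_filter, Finset.mem_univ, true_and] at hj hi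
      by_contra h
      have := hT i j h
      rcases hj with e | e
      · exact hi (this.trans (by rw [e]))
      · exact hi (this.trans (by rw [e, hAB]))
    rw [Finset.card_union_of_disjoint (Finset.disjoint_filter.2 fun i _ h1 h2 => hne (h1.symm.trans h2)),
      hsize, hsize, hsize] at h
    omega
  exact hgn ⟨Equiv.ofBijective T (Finite.injective_iff_bijective.1 hinj),
    fun i j h => hT i j (by simp only [hc]; rwa [mulVec_single_apply])⟩

/-- For the field with four elements and points, the pairs are centres. -/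
theorem allDb_two (hq : q = 2) (hblk : Function.Injective blk) : O.AllDb := by
  intro a b hab w hw hiso
  have hherm : Cfsg.hermForm n F q w w = 0 := by rw [O.sq.herm_apply]; exact hiso
  obtain ⟨h2, hnorm, -⟩ := Over.q_two O.sq hq
  by_cases hwa : w a = 0
  · refine O.cen_mem hherm fun i j hi hj => ?_
    have hib : ∀ i, w i ≠ 0 → i = b := fun i hi => by
      by_contra h
      by_cases h' : i = a
      · exact hi (h' ▸ hwa)
      · exact hi (hw i h' h)
    rw [hib i hi, hib j hj]
  refine ⟨hherm, fun e he => ?_⟩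
  by_cases he0 : e = 0
  · subst he0
    convert K.one_mem
    refine TransvMax.gl_ext fun x => ?_
    rw [TransvMax.utrv_mulVec, zero_mul, zero_smul, add_zero, Units.val_one, Matrix.one_mulVec]
  have he1 : e = 1 := by
    have h1 := hnorm e he0
    rw [eq_neg_of_add_eq_zero_right he, mul_neg] at h1
    have h3 : (e - 1) * (e - 1) = 0 := by linear_combination -h1 + (-e) * h2
    exact sub_eq_zero.1 (mul_self_eq_zero.1 h3)
  have hdiag : ∀ j, w j ≠ 0 → 1 + e * σ (w j) * w j = 0 := fun j hj => by
    rw [he1]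
    linear_combination hnorm _ hj + h2
  refine O.stab _ (TransvMax.utrv_mem_guSL _ hherm he) ?_
  have hwb : w b ≠ 0 := fun h => by
    rw [sum_pair hab (fun i h1 h2 => by rw [hw i h1 h2, zero_mul]), h, zero_mul, add_zero] at hiso
    exact mul_ne_zero hwa ((map_ne_zero σ).2 hwa) hiso
  refine ⟨Equiv.swap (blk a) (blk b), fun i j h => ?_⟩
  rw [← mulVec_single_apply, TransvMax.utrv_mulVec, Pi.add_apply, Pi.smul_apply, smul_eq_mul,
    O.sq.herm_apply, Finset.sum_eq_single j (fun l _ hl => by simp [hl]) (by simp), Pi.single_eq_same,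
    one_mul] at h
  by_cases hij : i = j
  · subst hij
    rw [Pi.single_eq_same] at h
    by_cases h0 : w i = 0
    · have hia : i ≠ a := fun e => hwa (e ▸ h0)
      have hib : i ≠ b := fun e => hwb (e ▸ h0)
      rw [Equiv.swap_apply_of_ne_of_ne (fun e => hia (hblk e)) fun e => hib (hblk e)]
    · exact absurd (hdiag i h0) h
  · rw [Pi.single_eq_of_ne hij, zero_add] at h
    have hi : w i ≠ 0 := fun e => h (by rw [e, mul_zero])
    have hj : w j ≠ 0 := fun e => h (by rw [e, map_zero, mul_zero, zero_mul])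
    have hab' : ∀ i, w i ≠ 0 → i = a ∨ i = b := fun i hi => by
      by_contra h; push Not at h; exact hi (hw i h.1 h.2)
    rcases hab' i hi with rfl | rfl <;> rcases hab' j hj with rfl | rfl
    · exact absurd rfl hij
    · rw [Equiv.swap_apply_right]
    · rw [Equiv.swap_apply_left]
    · exact absurd rfl hij

/-- For the field with four elements, four coordinates from more. -/
theorem cen_four (hq : q = 2) :
    ∀ s, ∀ v : Fin n → F, O.Cen v → (supp v).card = s → 3 ≤ s →
      ∃ u, O.Cen u ∧ (supp u).card = 4 := by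
  classical
  intro s
  induction s using Nat.strong_induction_on with
  | _ s ih =>
  intro v hv hs h3
  obtain ⟨h2, hnorm, μ, hμ, hμ1⟩ := Over.q_two O.sq hq
  have hμne : μ ≠ 1 ∧ σ μ ≠ 1 := by
    constructor <;> intro e
    · rw [e, map_one, one_add_one_eq_two, h2] at hμ1; exact zero_ne_one hμ1
    · have : μ = 1 := by simpa [O.sq.invol] using congrArg σ e
      rw [this, map_one, one_add_one_eq_two, h2] at hμ1; exact zero_ne_one hμ1
  by_cases h4 : s = 4
  · exact ⟨v, hv, h4 ▸ hs⟩
  have hs4 : 5 ≤ s := by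
    rcases Nat.lt_or_ge s 5 with h | h
    · exfalso
      have h' : s = 3 := by omega
      have hv0 := O.cen_iso hv
      rw [← Finset.sum_subset (Finset.subset_univ (supp v)) (fun i _ hi => by
        rw [not_mem_supp hi, zero_mul]), Finset.sum_congr rfl (fun i hi => hnorm _ (mem_supp.1 hi))] at hv0
      simp only [Finset.sum_const, hs, h', nsmul_eq_mul, mul_one] at hv0
      push_cast at hv0
      exact one_ne_zero (show (1 : F) = 0 by linear_combination hv0 - h2)
    · exact h
  -- the positions changed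
  have step : ∀ (A B : Finset (Fin n)), A ⊆ supp v → B ⊆ supp v → Disjoint A B → Odd A.card → Odd B.card →
      ∀ u : Fin n → F, (∀ i, u i * σ (u i) = 1) → ∏ i, u i = 1 → (∀ i ∈ A, u i = μ) →
      (∀ i ∈ B, u i = σ μ) → (∀ i, i ∉ A → i ∉ B → v i = 0 ∨ u i = 1) →
      ∃ w, O.Cen w ∧ supp w = A ∪ B := by
    intro A B hA hB hAB hAodd hBodd u hu hu1 huA huB huo
    refine ⟨_, O.cen_diff hv hu hu1 (γ := 1) ?_ one_ne_zero (by
      rw [map_one, one_add_one_eq_two, h2]), ?_⟩
    · rw [← Finset.sum_subset (Finset.subset_univ (A ∪ B)) (fun i _ hi => by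
        simp only [Finset.mem_union, not_or] at hi
        rcases huo i hi.1 hi.2 with h | h
        · rw [h, zero_mul, zero_mul]
        · rw [h, map_one, sub_self, mul_zero]), Finset.sum_union hAB,
        Finset.sum_congr rfl (fun i hi => by
          rw [huA i hi, hnorm _ (mem_supp.1 (hA hi)), one_mul] : ∀ i ∈ A,
            v i * σ (v i) * (σ (u i) - 1) = σ μ - 1),
        Finset.sum_congr rfl (fun i hi => by
          rw [huB i hi, hnorm _ (mem_supp.1 (hB hi)), one_mul, O.sq.invol] : ∀ i ∈ B,
            v i * σ (v i) * (σ (u i) - 1) = μ - 1),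
        Finset.sum_const, Finset.sum_const]
      obtain ⟨x, hx⟩ := hAodd
      obtain ⟨y, hy⟩ := hBodd
      simp only [hx, hy, nsmul_eq_mul]
      push_cast
      linear_combination ((x : F) * (σ μ - 1) + (y : F) * (μ - 1) - 1) * h2 + hμ1
    · ext i
      simp only [mem_supp, Finset.mem_union, ne_eq, mul_eq_zero, not_or]
      constructor
      · rintro ⟨h1, h1'⟩
        by_contra h
        push Not at h
        rcases huo i h.1 h.2 with e | e
        · exact h1' e
        · exact h1 (by rw [e, sub_self])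
      · rintro (h | h)
        · exact ⟨sub_ne_zero.2 (by rw [huA i h]; exact hμne.1.symm), mem_supp.1 (hA h)⟩
        · exact ⟨sub_ne_zero.2 (by rw [huB i h]; exact hμne.2.symm), mem_supp.1 (hB h)⟩
  by_cases hfull : ∃ c, v c = 0
  · obtain ⟨c, hc⟩ := hfull
    obtain ⟨A, hA, hAc⟩ := Finset.exists_subset_card_eq (show 3 ≤ (supp v).card by omega)
    obtain ⟨b, hb, hbA⟩ := Finset.exists_mem_notMem_of_card_lt_card
      (show A.card < (supp v).card by omega)
    have hcA : c ∉ A := fun h => mem_supp.1 (hA h) hc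
    have hcb : c ≠ b := fun e => mem_supp.1 hb (e ▸ hc)
    obtain ⟨u, hu_def⟩ : ∃ u : Fin n → F, u = fun i => if i ∈ A then μ else if i = b then σ μ else
        if i = c then (μ ^ 3 * σ μ)⁻¹ else 1 := ⟨_, rfl⟩
    have hu : ∀ i, u i * σ (u i) = 1 := fun i => by
      rw [hu_def]; dsimp only
      split_ifs
      · exact hμ
      · exact O.sq.unit_conj hμ
      · exact Sq.unit_inv' (Sq.unit_mul (Sq.unit_pow hμ 3) (O.sq.unit_conj hμ))
      · simp
    have hu1 : ∏ i, u i = 1 := by
      rw [← Finset.prod_subset (Finset.subset_univ (insert c (insert b A))) (fun i _ hi => by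
        simp only [Finset.mem_insert, not_or] at hi
        simp [hu_def, hi.1, hi.2.1, hi.2.2]), Finset.prod_insert (by simp [hcA, hcb]),
        Finset.prod_insert hbA, Finset.prod_congr rfl (fun i hi => by simp [hu_def, hi] : ∀ i ∈ A, u i = μ),
        Finset.prod_const, hAc]
      simp only [hu_def, hcA, hcb, hbA, ↓reduceIte]
      have := Sq.unit_ne_zero hμ
      have := (map_ne_zero σ).2 (Sq.unit_ne_zero hμ)
      field_simp
    obtain ⟨w, hw, hwsupp⟩ := step A {b} hA (by simpa using mem_supp.1 hb) (by simpa using hbA)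
      ⟨1, by omega⟩ ⟨0, by simp⟩ u hu hu1 (fun i hi => by simp [hu_def, hi])
      (fun i hi => by rw [Finset.mem_singleton] at hi; subst hi; simp [hu_def, hbA])
      (fun i h1 h2' => by
        rw [Finset.mem_singleton] at h2'
        by_cases e : i = c
        · exact Or.inl (e ▸ hc)
        · exact Or.inr (by simp [hu_def, h1, h2', e]))
    refine ⟨w, hw, ?_⟩
    rw [hwsupp, Finset.card_union_of_disjoint (by simpa using hbA), hAc, Finset.card_singleton]
  · push Not at hfull
    have hsn : supp v = Finset.univ := Finset.eq_univ_of_forall fun i => mem_supp.2 (hfull i)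
    have hn : s = n := by rw [← hs, hsn, Finset.card_univ, Fintype.card_fin]
    have := O.dim
    obtain ⟨A, hA, hAc⟩ := Finset.exists_subset_card_eq (show 3 ≤ (supp v).card by omega)
    obtain ⟨B, hB, hBc⟩ := Finset.exists_subset_card_eq (s := supp v \ A) (n := 3) (by
      rw [Finset.card_sdiff_of_subset hA]; omega)
    have hAB : Disjoint A B := Finset.disjoint_left.2 fun x hx hx' => (Finset.mem_sdiff.1 (hB hx')).2 hx
    obtain ⟨u, hu_def⟩ : ∃ u : Fin n → F, u = fun i => if i ∈ A then μ else if i ∈ B then σ μ else 1 :=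
      ⟨_, rfl⟩
    have hu : ∀ i, u i * σ (u i) = 1 := fun i => by
      rw [hu_def]; dsimp only
      split_ifs
      · exact hμ
      · exact O.sq.unit_conj hμ
      · simp
    have huB : ∀ i ∈ B, u i = σ μ := fun i hi => by
      simp [hu_def, hi, Finset.disjoint_right.1 hAB hi]
    have hu1 : ∏ i, u i = 1 := by
      rw [← Finset.prod_subset (Finset.subset_univ (A ∪ B)) (fun i _ hi => by
        simp only [Finset.mem_union, not_or] at hi
        simp [hu_def, hi.1, hi.2]), Finset.prod_union hAB,
        Finset.prod_congr rfl (fun i hi => by simp [hu_def, hi] : ∀ i ∈ A, u i = μ),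
        Finset.prod_congr rfl huB, Finset.prod_const, Finset.prod_const, hAc, hBc, ← mul_pow, hμ, one_pow]
    obtain ⟨w, hw, hwsupp⟩ := step A B hA (hB.trans Finset.sdiff_subset) hAB ⟨1, by omega⟩ ⟨1, by omega⟩
      u hu hu1 (fun i hi => by simp [hu_def, hi]) huB
      (fun i h1 h2' => Or.inr (by simp [hu_def, h1, h2']))
    have h6 : (supp w).card = 6 := by rw [hwsupp, Finset.card_union_of_disjoint hAB, hAc, hBc]
    exact ih 6 (by omega) w hw h6 (by norm_num)

/-- An element moving a pair to more coordinates, for the field with four elements. -/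
theorem exists_big_two (hq : q = 2) (hdb : O.AllDb) {g : GL (Fin n) F} (hg : g ∈ K)
    (hgn : ¬ Mono g) : ∃ v, O.Cen v ∧ 3 ≤ (supp v).card := by
  classical
  by_contra hcon
  push Not at hcon
  obtain ⟨h2, hnorm, μ, hμ, hμ1⟩ := Over.q_two O.sq hq
  have hμne : μ ≠ 1 := fun e => by
    rw [e, map_one, one_add_one_eq_two, h2] at hμ1; exact zero_ne_one hμ1
  obtain ⟨b, hb⟩ : ∃ b, ¬ Single ((g : Matrix (Fin n) (Fin n) F) *ᵥ Pi.single b 1) := by
    by_contra h; push Not at h; exact hgn h
  set B := (g : Matrix (Fin n) (Fin n) F) *ᵥ Pi.single b 1 with hB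
  set σμ := σ μ with hσμ
  have hσμ1 : σμ ≠ 1 := fun e => hμne (by simpa [hσμ, O.sq.invol] using congrArg σ e)
  have hμσμ : μ ≠ σμ := fun e => by
    rw [← e, ← two_mul, h2, zero_mul] at hμ1; exact zero_ne_one hμ1
  have key : ∀ a, a ≠ b → ((supp ((g : Matrix (Fin n) (Fin n) F) *ᵥ Pi.single a 1)) ∪ supp B).card ≤ 3 := by
    intro a hab
    set A := (g : Matrix (Fin n) (Fin n) F) *ᵥ Pi.single a 1 with hA
    set U := supp A ∪ supp B with hU
    have hzero : ∀ l : F, l * σ l = 1 → U.card ≤ (U.filter fun i => A i + l * B i = 0).card + 2 := by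
      intro l hl
      have hCen : O.Cen ((g : Matrix (Fin n) (Fin n) F) *ᵥ (Pi.single a 1 + l • Pi.single b 1)) := by
        refine O.cen_map (hdb a b hab _ (fun i h1 h2 => by simp [h1, h2]) ?_) hg
        rw [sum_pair hab (fun i h1 h2 => by simp [h1, h2])]
        simp [hab, hab.symm]
        linear_combination hl + h2
      have h1 := hcon _ hCen
      rw [← Finset.card_filter_add_card_filter_not (s := U) (fun i => A i + l * B i = 0)]
      refine Nat.add_le_add_left (le_trans (Finset.card_le_card fun i hi => ?_) (Nat.lt_succ_iff.1 h1)) _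
      rw [Finset.mem_filter] at hi
      rw [mem_supp, Matrix.mulVec_add, Matrix.mulVec_smul, Pi.add_apply, Pi.smul_apply, smul_eq_mul]
      exact hi.2
    have hdisj : ∀ l l' : F, l ≠ l' → ∀ i ∈ U, A i + l * B i = 0 → A i + l' * B i ≠ 0 := by
      intro l l' hll i hi e e'
      have hb0 : B i = 0 := (mul_eq_zero.1 (show (l - l') * B i = 0 by
        linear_combination e - e')).resolve_left (sub_ne_zero.2 hll)
      rw [hb0, mul_zero, add_zero] at e
      rcases Finset.mem_union.1 hi with h | h
      · exact mem_supp.1 h e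
      · exact mem_supp.1 h hb0
    have h1 := hzero 1 (by simp)
    have h2' := hzero μ hμ
    have h3 := hzero σμ (O.sq.unit_conj hμ)
    have hd1 : Disjoint (U.filter fun i => A i + 1 * B i = 0) (U.filter fun i => A i + μ * B i = 0) :=
      Finset.disjoint_filter.2 fun i hi => hdisj 1 μ hμne.symm i hi
    have hd2 : Disjoint ((U.filter fun i => A i + 1 * B i = 0) ∪ U.filter fun i => A i + μ * B i = 0)
        (U.filter fun i => A i + σμ * B i = 0) :=
      Finset.disjoint_union_left.2 ⟨Finset.disjoint_filter.2 fun i hi => hdisj 1 σμ hσμ1.symm i hi,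
        Finset.disjoint_filter.2 fun i hi => hdisj μ σμ hμσμ i hi⟩
    have h4 := Finset.card_le_card (show ((U.filter fun i => A i + 1 * B i = 0) ∪
      U.filter fun i => A i + μ * B i = 0) ∪ U.filter (fun i => A i + σμ * B i = 0) ⊆ U from
        Finset.union_subset (Finset.union_subset (Finset.filter_subset _ _) (Finset.filter_subset _ _))
          (Finset.filter_subset _ _))
    rw [Finset.card_union_of_disjoint hd2, Finset.card_union_of_disjoint hd1] at h4
    omega
  have hBnorm : ((supp B).card : F) = 1 := by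
    have h1 := iso_of_mem (O.le hg) (Pi.single b 1) (Pi.single b 1)
    rw [← hB, O.herm_single, Pi.single_eq_same, O.sq.herm_apply,
      ← Finset.sum_subset (Finset.subset_univ (supp B)) (fun i _ hi => by
        rw [not_mem_supp hi, zero_mul]),
      Finset.sum_congr rfl (fun i hi => hnorm _ (mem_supp.1 hi))] at h1
    simpa using h1
  have hB2 : 2 ≤ (supp B).card := by
    by_contra h
    rcases Finset.eq_empty_or_nonempty (supp B) with e | ⟨r, hr⟩
    · rw [e] at hBnorm; simp at hBnorm
    · exact hb ⟨r, fun i hi => not_mem_supp fun h' => hi (Finset.card_le_one.1 (by omega) i h' r hr)⟩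
  obtain ⟨a, hab⟩ : ∃ a, a ≠ b := by
    obtain ⟨a, -, ha⟩ := Finset.exists_mem_notMem_of_card_lt_card (s := ({b} : Finset (Fin n)))
      (t := Finset.univ) (by
        rw [Finset.card_univ, Fintype.card_fin, Finset.card_singleton]
        have := O.dim
        omega)
    exact ⟨a, by simpa using ha⟩
  have hB3 : (supp B).card = 3 := by
    have := (Finset.card_le_card (Finset.subset_union_right)).trans (key a hab)
    rcases Nat.lt_or_ge (supp B).card 3 with h | h
    · rw [show (supp B).card = 2 by omega] at hBnorm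
      push_cast at hBnorm
      rw [h2] at hBnorm
      exact absurd hBnorm zero_ne_one
    · omega
  have := card_cols_le g Finset.univ (supp B) fun j _ i hi => by
    by_cases hj : j = b
    · rw [hj]; exact not_mem_supp hi
    refine not_mem_supp fun h => ?_
    have h4 := Finset.card_le_card (show insert i (supp B) ⊆
      supp ((g : Matrix (Fin n) (Fin n) F) *ᵥ Pi.single j 1) ∪ supp B from
        Finset.insert_subset (Finset.mem_union_left _ h) Finset.subset_union_right)
    rw [Finset.card_insert_of_notMem hi] at h4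
    have := key j hj
    omega
  rw [Finset.card_univ, Fintype.card_fin, hB3] at this
  have := O.dim
  omega

/-- Four coordinates in a block or across two blocks of size three. -/
theorem exists_quad (hq : q = 2) (hdb : O.AllDb) {k : ℕ}
    (hk : ∀ a, (Finset.univ.filter fun i => blk i = a).card = k) (hk3 : 3 ≤ k) :
    ∃ u, O.Cen u ∧ (supp u).card = 4 := by
  classical
  obtain ⟨h2, hnorm, -⟩ := Over.q_two O.sq hq
  let i₀ : Fin n := ⟨0, by have := O.dim; omega⟩
  set A := Finset.univ.filter fun i => blk i = blk i₀ with hA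
  by_cases h4 : 4 ≤ k
  · obtain ⟨T, hT, hTc⟩ := Finset.exists_subset_card_eq (s := A) (n := 4) (by rw [hA, hk]; exact h4)
    have hsupp : supp (fun i => if i ∈ T then (1 : F) else 0) = T := by ext i; simp
    refine ⟨fun i => if i ∈ T then 1 else 0, O.cen_mem ?_ (fun i j hi hj => ?_), by rw [hsupp, hTc]⟩
    · rw [O.sq.herm_apply, Finset.sum_congr rfl (fun i _ => by split_ifs <;> simp :
        ∀ i ∈ (Finset.univ : Finset (Fin n)),
          (if i ∈ T then (1 : F) else 0) * σ (if i ∈ T then (1 : F) else 0) = if i ∈ T then 1 else 0),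
        Finset.sum_ite_mem, Finset.univ_inter, Finset.sum_const, hTc, nsmul_eq_mul, mul_one]
      push_cast
      linear_combination 2 * h2
    · have h : ∀ i, (if i ∈ T then (1 : F) else 0) ≠ 0 → blk i = blk i₀ := fun i hi => by
        by_cases e : i ∈ T
        · exact (Finset.mem_filter.1 (hT e)).2
        · simp [e] at hi
      rw [h i hi, h j hj]
  have hk' : k = 3 := by omega
  obtain ⟨d, -, hd⟩ := Finset.exists_mem_notMem_of_card_lt_card (s := A) (t := Finset.univ) (by
    rw [hA, hk, Finset.card_univ, Fintype.card_fin, hk']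
    have := O.dim
    omega)
  have hdA : blk d ≠ blk i₀ := fun e => hd (by simp [hA, e])
  have hAc : A.card = 3 := by rw [hA, hk, hk']
  obtain ⟨p, hp⟩ : ∃ p : Fin n → F, p = fun i => if i ∈ A then 1 else 0 := ⟨_, rfl⟩
  have hf := O.sq.unitary n
  have hpp : Cfsg.hermForm n F q p p = 1 := by
    rw [O.sq.herm_apply, hp, Finset.sum_congr rfl (fun i _ => by split_ifs <;> simp :
        ∀ i ∈ (Finset.univ : Finset (Fin n)),
          (if i ∈ A then (1 : F) else 0) * σ (if i ∈ A then (1 : F) else 0) = if i ∈ A then 1 else 0),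
      Finset.sum_ite_mem, Finset.univ_inter, Finset.sum_const, hAc, nsmul_eq_mul, mul_one]
    push_cast
    linear_combination h2
  have hp'p' : Cfsg.hermForm n F q (Pi.single d 1) (Pi.single d 1) = 1 := by
    rw [O.herm_single, Pi.single_eq_same]
  have hpp' : Cfsg.hermForm n F q p (Pi.single d 1) = 0 := by
    rw [O.herm_single, hp]; simp [hd]
  obtain ⟨g, hgS, hgiso, μ, μ', hμ, hgx⟩ := TransvMax.exists_refl_pair hf
    (show Cfsg.hermForm n F q p p ≠ 0 by rw [hpp]; exact one_ne_zero)
    (show Cfsg.hermForm n F q (Pi.single d 1) (Pi.single d 1) ≠ 0 by rw [hp'p']; exact one_ne_zero)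
    hpp'
  have hgK : g ∈ K := O.stab g ⟨hgiso, hgS⟩ ⟨1, fun i j h => by
    by_contra hne
    refine h ?_
    have hij : i ≠ j := fun e => hne (by rw [e]; rfl)
    rw [← mulVec_single_apply, hgx, Pi.add_apply, Pi.add_apply, Pi.smul_apply, Pi.smul_apply,
      Pi.single_eq_of_ne hij, O.herm_single, O.sq.herm_apply,
      Finset.sum_eq_single j (fun l _ hl => by simp [hl]) (by simp), Pi.single_eq_same, one_mul]
    by_cases hi : i ∈ A
    · have hj : j ∉ A := fun hj => hne (by
        rw [(Finset.mem_filter.1 hi).2, ← (Finset.mem_filter.1 hj).2]; rfl)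
      have hid : i ≠ d := fun e => hd (e ▸ hi)
      simp [hp, hj, hid]
    · by_cases hid : i = d
      · subst hid
        simp [hp, hi, hij.symm]
      · simp [hp, hi, hid]⟩
  have hid : i₀ ≠ d := fun e => hdA (e ▸ rfl)
  obtain ⟨v, hv⟩ : ∃ v : Fin n → F, v = Pi.single i₀ 1 + Pi.single d 1 := ⟨_, rfl⟩
  have hvC : O.Cen v := hdb i₀ d hid v (fun i h1 h2' => by simp [hv, h1, h2']) (by
    rw [sum_pair hid (fun i h1 h2' => by simp [hv, h1, h2'])]
    simp [hv, hid, hid.symm]
    linear_combination h2)
  have hne0 : ∀ x : Fin n → F, x ≠ 0 → (g : Matrix (Fin n) (Fin n) F) *ᵥ x ≠ 0 := fun x hx e => hx (by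
    simpa [TransvMax.inv_mulVec_mulVec] using
      congrArg (((g⁻¹ : GL (Fin n) F) : Matrix (Fin n) (Fin n) F) *ᵥ ·) e)
  have hμ1 : 1 + μ ≠ 0 := fun e => by
    have hp0 : p ≠ 0 := fun e => by rw [e, TransvMax.herm_zero_left hf] at hpp; exact zero_ne_one hpp
    refine hne0 p hp0 ?_
    rw [hgx, hpp', hpp, mul_one, mul_zero, zero_smul, add_zero]
    funext i
    simp only [Pi.add_apply, Pi.smul_apply, smul_eq_mul, Pi.zero_apply]
    linear_combination (p i) * e
  have hμ2 : 1 + μ' ≠ 0 := fun e => by
    refine hne0 (Pi.single d 1) (fun h => one_ne_zero (Pi.single_eq_zero_iff.1 h)) ?_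
    rw [hgx, TransvMax.herm_eq_zero_comm hf hpp', hp'p', mul_zero, zero_smul, add_zero, mul_one]
    funext i
    simp only [Pi.add_apply, Pi.smul_apply, smul_eq_mul, Pi.zero_apply]
    linear_combination ((Pi.single d (1 : F) : Fin n → F) i) * e
  refine ⟨_, O.cen_map hvC hgK, ?_⟩
  have hfv : Cfsg.hermForm n F q v p = 1 := by
    rw [hv, hf.add_left, hf.herm (Pi.single i₀ 1) p, O.herm_single, TransvMax.herm_eq_zero_comm hf hpp',
      hp]
    simp [hA]
  rw [show supp ((g : Matrix (Fin n) (Fin n) F) *ᵥ v) = insert d A from ?_,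
    Finset.card_insert_of_notMem hd, hAc]
  ext i
  rw [mem_supp, hgx, hfv, O.herm_single, Finset.mem_insert, Pi.add_apply, Pi.add_apply, Pi.smul_apply,
    Pi.smul_apply]
  by_cases hi : i = d
  · subst hi
    simp [hv, hp, hd, hid.symm, hμ2]
  by_cases hiA : i ∈ A
  · by_cases h0 : i = i₀
    · subst h0
      simp [hv, hp, hiA, hi, hμ1]
    · simp [hv, hp, hiA, hi, h0, hμ]
  · have h0 : i ≠ i₀ := fun e => hiA (by simp [hA, e])
    simp [hv, hp, hiA, hi, h0]

/-- A proper overgroup has all isotropic centres. -/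
theorem cen_of_over {g : GL (Fin n) F} (hg : g ∈ K) (hgn : ¬ BlockPerm blk g)
    (hex : q = 2 → ∀ a, (Finset.univ.filter fun i => blk i = a).card ≠ 2) :
    ∀ v : Fin n → F, ∑ i, v i * σ (v i) = 0 → O.Cen v := by
  classical
  by_cases h2 : ∃ a b : Fin n, a ≠ b ∧ blk a = blk b
  · obtain ⟨v, a, b, hv, hab, ha, hb⟩ := O.exists_crossing hg hgn h2
    obtain ⟨w, a', b', hw, hab', ha', hb', hsupp⟩ := O.exists_cross hv ⟨a, b, hab, ha, hb⟩ (Or.inr h2)
    have hdb := O.allDb_of_cross hw hab' ha' hb' hsupp
    refine O.cen_all hdb fun hq => ?_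
    obtain ⟨k, hk, hsize⟩ := O.size
    refine O.exists_quad hq hdb hsize ?_
    obtain ⟨a₀, b₀, hab₀, he⟩ := h2
    have : 1 < k := by
      rw [← hsize (blk a₀)]
      exact Finset.one_lt_card.2 ⟨a₀, by simp, b₀, by simp [he], hab₀⟩
    have := hex hq (blk a₀)
    rw [hsize] at this
    omega
  push Not at h2
  have hblk : Function.Injective blk := fun a b h => by
    by_contra hne
    exact h2 a b hne h
  have hgm : ¬ Mono g := fun h => hgn (blockPerm_of_mono ⟨hblk, O.blk_surj⟩ h)
  by_cases hq : q = 2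
  · have hdb := O.allDb_two hq hblk
    refine O.cen_all hdb fun _ => ?_
    obtain ⟨v, hv, h3⟩ := O.exists_big_two hq hdb hg hgm
    exact O.cen_four hq _ v hv rfl h3
  · have h3 : 3 ≤ q := by have := O.sq.two_le; omega
    obtain ⟨z, c, hz, hz0, hzc⟩ := O.exists_cen_mono hblk h3 hg hgm
    obtain ⟨a, ha⟩ := Function.ne_iff.1 hz0
    obtain ⟨b, hba, hb⟩ := O.supp_of_iso hz ha
    obtain ⟨w, a', b', hw, hab', ha', hb', hsupp⟩ :=
      O.exists_cross hz ⟨a, b, fun e => hba (hblk e).symm, ha, hb⟩ (Or.inl ⟨c, hzc⟩)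
    exact O.cen_all (O.allDb_of_cross hw hab' ha' hb' hsupp) fun h => absurd h hq

end Over

end Cfsg.Agent.UFrame
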