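import Cfsg.Agent.Lib.TransvMax.UFrame.Fixer

/-!
If all stabilisers of coordinate lines are monomial, so is the whole group.
-/

set_option autoImplicit false

namespace Cfsg.Agent.UFrame

open scoped Matrix MatrixGroups
open Cfsg.Agent

variable {F : Type*} [Field F] {n q t : ℕ} {σ : F ≃+* F} {blk : Fin n → Fin t}
  {K : Subgroup (GL (Fin n) F)}

theorem Shape.mono_inv {m : GL (Fin n) F} {π : Fin n → Fin n} {c : Fin n → F} (S : Shape m π c) :
    Mono m⁻¹ := fun a => by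
  obtain ⟨j, rfl⟩ := (Finite.injective_iff_surjective.1 S.inj) a
  refine ⟨j, fun i hi => ?_⟩
  have h := congrArg (((m⁻¹ : GL (Fin n) F) : Matrix (Fin n) (Fin n) F) *ᵥ ·) (S.map j)
  simp only [TransvMax.inv_mulVec_mulVec, Matrix.mulVec_smul] at h
  have := congrFun h i
  simpa [hi, S.ne j] using this

variable [Fintype F]

namespace Over

variable (O : Over q σ blk K)

include O

/-- An orbit vector with a zero is on a coordinate line, when all determinants can be corrected. -/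
theorem single_of_scalar (h3 : 3 ≤ q) (hA : O.AllFix) {v : Fin n → F} (hv : O.Orb v) {l : Fin n}
    (hl : v l = 0) {ζ : F} (hζ : ζ * σ ζ = 1) (hζn : ζ ^ n ≠ 1) : Single v := by
  classical
  obtain ⟨g, hg, a, rfl⟩ := hv
  have hz0 := Sq.unit_ne_zero hζ
  have hn0 := pow_ne_zero n hz0
  obtain ⟨u, hu_def⟩ : ∃ u : Fin n → F, u = fun i => if i = l then (ζ ^ n)⁻¹ * ζ else ζ := ⟨_, rfl⟩
  have hu : ∀ i, u i * σ (u i) = 1 := fun i => by
    rw [hu_def]
    dsimp only
    split_ifs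
    · exact Sq.unit_mul (Sq.unit_inv' (Sq.unit_pow hζ n)) hζ
    · exact hζ
  have hu1 : ∏ i, u i = 1 := by
    rw [← Finset.mul_prod_erase _ _ (Finset.mem_univ l), Finset.prod_congr rfl (fun i hi => by
      simp [hu_def, Finset.ne_of_mem_erase hi] : ∀ i ∈ Finset.univ.erase l, u i = ζ), Finset.prod_const,
      Finset.card_erase_of_mem (Finset.mem_univ l), Finset.card_univ, Fintype.card_fin,
      show u l = (ζ ^ n)⁻¹ * ζ by simp [hu_def], mul_assoc, ← pow_succ',
      Nat.sub_add_cancel (by have := O.dim; omega : 1 ≤ n), inv_mul_cancel₀ hn0]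
  have hu0 : ∀ i, u i ≠ 0 := fun i => Sq.unit_ne_zero (hu i)
  have hmono : Mono (g⁻¹ * dia u hu0 * g) := O.conj_mono hA hg (O.dia_mem hu hu1) (s := ζ) (a := a) (by
    rw [dia_mulVec]
    funext i
    rw [Pi.smul_apply, smul_eq_mul]
    by_cases h1 : i = l
    · rw [h1, hl, mul_zero, mul_zero]
    · simp [hu_def, h1])
  obtain ⟨π, cc, S⟩ := hmono.shape
  have hul : u l = (ζ ^ n)⁻¹ * ζ := by simp [hu_def]
  have hval : ∀ i, u i = ζ ∨ u i = (ζ ^ n)⁻¹ * ζ := fun i => by
    by_cases h : i = l <;> simp [hu_def, h]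
  obtain ⟨heig1, heig2⟩ := eig_conj g u hu0 (c := l) fun r hr => by
    by_contra h
    rw [hul, show u r = ζ by simp [hu_def, h]] at hr
    exact hζn (inv_eq_one.1 (mul_right_cancel₀ hz0 (hr.symm.trans (one_mul ζ).symm)))
  set w := ((g⁻¹ : GL (Fin n) F) : Matrix (Fin n) (Fin n) F) *ᵥ Pi.single l 1
  by_cases hw : ∀ j, w j = 0
  · exact O.mono_of_inv_small h3 hA hg (c := l) ∅ (by simp) (fun i _ => hw i) a
  push Not at hw
  obtain ⟨j, hj⟩ := hw
  have hjj := (S.sq_fix (quad_conj g u hu0 hval) j).1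
  refine O.mono_of_inv_small h3 hA hg (c := l) {j, π j}
    (Finset.card_le_two.trans (by norm_num)) (fun i hi => ?_) a
  simp only [Finset.mem_insert, Finset.mem_singleton, not_or] at hi
  exact S.pair_of_inv heig1 heig2 hjj hj i hi.1 hi.2

/-- The involution exchanging two coordinates of equal norm and changing a sign. -/
theorem exists_swap (hblk : Function.Injective blk) {v : Fin n → F} {a b l : Fin n} (hab : a ≠ b)
    (hal : a ≠ l) (hbl : b ≠ l) (ha : v a ≠ 0) (hb : v b ≠ 0)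
    (hN : v a * σ (v a) = v b * σ (v b)) :
    ∃ h ∈ K, ∀ y : Fin n → F,
      ((h : Matrix (Fin n) (Fin n) F) *ᵥ y) a = v a / v b * y b ∧
      ((h : Matrix (Fin n) (Fin n) F) *ᵥ y) b = v b / v a * y a ∧
      ((h : Matrix (Fin n) (Fin n) F) *ᵥ y) l = -y l ∧
      ∀ i, i ≠ a → i ≠ b → i ≠ l → ((h : Matrix (Fin n) (Fin n) F) *ᵥ y) i = y i := by
  classical
  have ha' := (map_ne_zero σ).2 ha
  have hb' := (map_ne_zero σ).2 hb
  obtain ⟨u, hu_def⟩ : ∃ u : Fin n → F, u = fun i => if i = a then v b / v a else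
      if i = b then v a / v b else if i = l then -1 else 1 := ⟨_, rfl⟩
  have hu : ∀ i, u i * σ (u i) = 1 := fun i => by
    rw [hu_def]
    dsimp only
    split_ifs
    · rw [map_div₀, div_mul_div_comm, hN, div_self (mul_ne_zero hb hb')]
    · rw [map_div₀, div_mul_div_comm, hN, div_self (mul_ne_zero hb hb')]
    · simp
    · simp
  have h1 : ((Equiv.Perm.sign (Equiv.swap a b) : ℤ) : F) * ∏ i, u i = 1 := by
    rw [Equiv.Perm.sign_swap hab, ← Finset.prod_subset (Finset.subset_univ {a, b, l}) (fun i _ hi => by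
      simp only [Finset.mem_insert, Finset.mem_singleton, not_or] at hi
      simp [hu_def, hi.1, hi.2.1, hi.2.2]), Finset.prod_insert (by simp [hab, hal]),
      Finset.prod_insert (by simp [hbl]), Finset.prod_singleton]
    simp only [hu_def, hab.symm, hal.symm, hbl.symm, ↓reduceIte]
    push_cast
    field_simp
  refine ⟨_, O.mon_mem (π := Equiv.swap a b) (fun i j =>
    ⟨fun h => by rw [hblk h], fun h => by rw [(Equiv.swap a b).injective (hblk h)]⟩) hu h1, fun y => ?_⟩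
  rw [mon_mulVec]
  refine ⟨?_, ?_, ?_, fun i h1 h2 h3 => ?_⟩
  · simp [hu_def, hab.symm]
  · simp [hu_def]
  · simp [hu_def, Equiv.swap_apply_of_ne_of_ne hal.symm hbl.symm, hal.symm, hbl.symm]
  · simp [hu_def, Equiv.swap_apply_of_ne_of_ne h1 h2, h1, h2, h3]

/-- Two coordinates of equal norm in odd characteristic. -/
theorem single_of_swap_odd (h3 : 3 ≤ q) (hA : O.AllFix) (h2 : (2 : F) ≠ 0)
    (hblk : Function.Injective blk) {g : GL (Fin n) F} (hg : g ∈ K) {i₀ a b l : Fin n} (hab : a ≠ b)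
    (hal : a ≠ l) (hbl : b ≠ l) {v : Fin n → F}
    (hv : (g : Matrix (Fin n) (Fin n) F) *ᵥ Pi.single i₀ 1 = v)
    (hl : v l = 0) (ha : v a ≠ 0) (hb : v b ≠ 0) (hN : v a * σ (v a) = v b * σ (v b)) : Mono g := by
  classical
  obtain ⟨h, hh, hy⟩ := O.exists_swap hblk hab hal hbl ha hb hN
  set m := g⁻¹ * h * g with hm
  have hmono : Mono m := O.conj_mono hA hg hh (s := 1) (a := i₀) (by
    rw [hv, one_smul]
    obtain ⟨e1, e2, e3, e4⟩ := hy v
    funext i
    by_cases h1 : i = a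
    · rw [h1, e1, div_mul_cancel₀ _ hb]
    by_cases h2 : i = b
    · rw [h2, e2, div_mul_cancel₀ _ ha]
    by_cases h3 : i = l
    · rw [h3, e3, hl, neg_zero]
    · exact e4 i h1 h2 h3)
  obtain ⟨π, cc, S⟩ := hmono.shape
  have hmx : ∀ x, (g : Matrix (Fin n) (Fin n) F) *ᵥ ((m : Matrix (Fin n) (Fin n) F) *ᵥ x) =
      (h : Matrix (Fin n) (Fin n) F) *ᵥ ((g : Matrix (Fin n) (Fin n) F) *ᵥ x) := fun x => by
    rw [hm, Units.val_mul, Units.val_mul, ← Matrix.mulVec_mulVec, ← Matrix.mulVec_mulVec,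
      TransvMax.mulVec_inv_mulVec]
  have hginj : ∀ x y, (g : Matrix (Fin n) (Fin n) F) *ᵥ x = (g : Matrix (Fin n) (Fin n) F) *ᵥ y →
      x = y := fun x y e => by
    simpa [TransvMax.inv_mulVec_mulVec] using
      congrArg (((g⁻¹ : GL (Fin n) F) : Matrix (Fin n) (Fin n) F) *ᵥ ·) e
  have hinvol : ∀ x, (m : Matrix (Fin n) (Fin n) F) *ᵥ ((m : Matrix (Fin n) (Fin n) F) *ᵥ x) = x := by
    intro x
    refine hginj _ _ ?_
    rw [hmx, hmx]
    set y := (g : Matrix (Fin n) (Fin n) F) *ᵥ x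
    obtain ⟨e1, e2, e3, e4⟩ := hy ((h : Matrix (Fin n) (Fin n) F) *ᵥ y)
    obtain ⟨f1, f2, f3, f4⟩ := hy y
    funext i
    by_cases h1 : i = a
    · rw [h1, e1, f2]; field_simp
    by_cases h2 : i = b
    · rw [h2, e2, f1]; field_simp
    by_cases h3 : i = l
    · rw [h3, e3, f3, neg_neg]
    · rw [e4 i h1 h2 h3, f4 i h1 h2 h3]
  have hjj : ∀ j, π (π j) = j := fun j => (S.sq_fix (α := 1) (β := -1) (fun x => by
    rw [hinvol, add_neg_cancel, zero_smul, zero_sub, one_mul, neg_smul, one_smul, neg_neg]) j).1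
  set w := ((g⁻¹ : GL (Fin n) F) : Matrix (Fin n) (Fin n) F) *ᵥ Pi.single l 1 with hw
  have hmw : (m : Matrix (Fin n) (Fin n) F) *ᵥ w = -w := by
    refine hginj _ _ ?_
    rw [hmx, Matrix.mulVec_neg, hw, TransvMax.mulVec_inv_mulVec]
    obtain ⟨e1, e2, e3, e4⟩ := hy (Pi.single l 1)
    funext i
    by_cases h1 : i = a
    · rw [h1, e1]; simp [hal, hbl]
    by_cases h2 : i = b
    · rw [h2, e2]; simp [hal, hbl]
    by_cases h3 : i = l
    · rw [h3, e3]; rfl
    · rw [e4 i h1 h2 h3]; simp [h3]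
  refine O.mono_of_inv_small h3 hA hg (c := l) (supp w) ?_ (fun i hi => not_mem_supp hi)
  by_contra hcard
  obtain ⟨j₁, hj₁⟩ := Finset.card_pos.1 (by omega : 0 < (supp w).card)
  obtain ⟨j₂, hj₂, hj₂'⟩ := Finset.exists_mem_notMem_of_card_lt_card
    (s := ({j₁, π j₁} : Finset (Fin n))) (t := supp w)
    (lt_of_le_of_lt Finset.card_le_two (by omega))
  obtain ⟨j₃, hj₃, hj₃'⟩ := Finset.exists_mem_notMem_of_card_lt_card
    (s := ({j₁, π j₁, j₂, π j₂} : Finset (Fin n))) (t := supp w)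
    (lt_of_le_of_lt Finset.card_le_four (by omega))
  simp only [Finset.mem_insert, Finset.mem_singleton, not_or] at hj₂' hj₃'
  let x : Fin n → Fin n → F := fun j =>
    Pi.single j 1 - (m : Matrix (Fin n) (Fin n) F) *ᵥ Pi.single j 1
  have hx : ∀ j, (m : Matrix (Fin n) (Fin n) F) *ᵥ x j = -x j := fun j => by
    simp only [x, Matrix.mulVec_sub, hinvol, neg_sub]
  have hxj : ∀ j, w j ≠ 0 → x j j ≠ 0 := fun j hj => by
    simp only [x, S.map, Pi.sub_apply, Pi.smul_apply, Pi.single_eq_same, smul_eq_mul]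
    by_cases h1 : π j = j
    · have h2' : cc j = -1 := by
        refine mul_right_cancel₀ hj ?_
        rw [← S.apply, h1, hmw, Pi.neg_apply, neg_one_mul]
      rw [h1, Pi.single_eq_same, h2']
      intro e
      exact h2 (by linear_combination e)
    · rw [Pi.single_eq_of_ne (Ne.symm h1), mul_zero, sub_zero]
      exact one_ne_zero
  have hxo : ∀ j i, i ≠ j → i ≠ π j → x j i = 0 := fun j i h1 h2 => by
    simp [x, S.map, h1, h2]
  let G : (Fin 3 → F) →ₗ[F] (Fin n → F) :=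
    Fintype.linearCombination F ![x j₁, x j₂, x j₃]
  let L : (Fin 3 → F) →ₗ[F] (Fin 2 → F) :=
    (LinearMap.pi fun r : Fin 2 => LinearMap.proj (![a, l] r)).comp
      ((Matrix.toLin' (g : Matrix (Fin n) (Fin n) F)).comp G)
  obtain ⟨cv, hcv, hcv0⟩ := (Submodule.ne_bot_iff (LinearMap.ker L)).1 fun hbot => by
    have h1 := L.finrank_range_add_finrank_ker
    rw [hbot, finrank_bot, Module.finrank_fin_fun] at h1
    have h2 := Submodule.finrank_le (LinearMap.range L)
    rw [Module.finrank_fin_fun] at h2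
    omega
  have hGm : (m : Matrix (Fin n) (Fin n) F) *ᵥ G cv = -G cv := by
    simp [G, Fintype.linearCombination_apply, Fin.sum_univ_three, Matrix.mulVec_add,
      Matrix.mulVec_smul, hx]
    abel
  set y := (g : Matrix (Fin n) (Fin n) F) *ᵥ G cv with hy_def
  have hyneg : (h : Matrix (Fin n) (Fin n) F) *ᵥ y = -y := by
    rw [hy_def, ← hmx, hGm, Matrix.mulVec_neg]
  have hya : y a = 0 := congrFun (LinearMap.mem_ker.1 hcv) 0
  have hyl : y l = 0 := congrFun (LinearMap.mem_ker.1 hcv) 1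
  have hy0 : y = 0 := by
    obtain ⟨e1, e2, e3, e4⟩ := hy y
    funext i
    by_cases h1 : i = a
    · rw [h1, hya]; rfl
    by_cases h2' : i = b
    · subst h2'
      have := congrFun hyneg i
      rw [e2, hya, mul_zero, Pi.neg_apply, eq_comm, neg_eq_zero] at this
      exact this
    by_cases h3 : i = l
    · rw [h3, hyl]; rfl
    · have := congrFun hyneg i
      rw [e4 i h1 h2' h3, Pi.neg_apply] at this
      exact (mul_eq_zero.1 (show (2 : F) * y i = 0 by linear_combination this)).resolve_left h2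
  have hG0 : G cv = 0 := hginj _ _ (by rw [← hy_def, hy0, Matrix.mulVec_zero])
  simp only [G, Fintype.linearCombination_apply, Fin.sum_univ_three] at hG0
  simp only [Matrix.cons_val_zero, Matrix.cons_val_one] at hG0
  rw [show (![x j₁, x j₂, x j₃] : Fin 3 → Fin n → F) 2 = x j₃ from rfl] at hG0
  have e1 := congrFun hG0 j₁
  have e2 := congrFun hG0 j₂
  have e3 := congrFun hG0 j₃
  have n12 : j₁ ≠ π j₂ := fun e => hj₂'.2 (by rw [e, hjj])
  have n13 : j₁ ≠ π j₃ := fun e => hj₃'.2.1 (by rw [e, hjj])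
  have n23 : j₂ ≠ π j₃ := fun e => hj₃'.2.2.2 (by rw [e, hjj])
  simp only [Pi.add_apply, Pi.smul_apply, Pi.zero_apply, smul_eq_mul] at e1 e2 e3
  rw [hxo j₂ j₁ (Ne.symm hj₂'.1) n12, hxo j₃ j₁ (Ne.symm hj₃'.1) n13, mul_zero, mul_zero, add_zero,
    add_zero] at e1
  rw [hxo j₁ j₂ hj₂'.1 hj₂'.2, hxo j₃ j₂ (Ne.symm hj₃'.2.2.1) n23, mul_zero, mul_zero, zero_add,
    add_zero] at e2
  rw [hxo j₁ j₃ hj₃'.1 hj₃'.2.1, hxo j₂ j₃ hj₃'.2.2.1 hj₃'.2.2.2, mul_zero, mul_zero, zero_add,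
    zero_add] at e3
  refine hcv0 (funext fun r => ?_)
  fin_cases r
  · exact (mul_eq_zero.1 e1).resolve_right (hxj _ (mem_supp.1 hj₁))
  · exact (mul_eq_zero.1 e2).resolve_right (hxj _ (mem_supp.1 hj₂))
  · exact (mul_eq_zero.1 e3).resolve_right (hxj _ (mem_supp.1 hj₃))

/-- Two coordinates of equal norm in characteristic two. -/
theorem single_of_swap_even (h3 : 3 ≤ q) (hA : O.AllFix) (h2 : (2 : F) = 0)
    (hblk : Function.Injective blk) {g : GL (Fin n) F} (hg : g ∈ K) {i₀ a b l : Fin n} (hab : a ≠ b)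
    (hal : a ≠ l) (hbl : b ≠ l) {v : Fin n → F}
    (hv : (g : Matrix (Fin n) (Fin n) F) *ᵥ Pi.single i₀ 1 = v)
    (hl : v l = 0) (ha : v a ≠ 0) (hb : v b ≠ 0) (hN : v a * σ (v a) = v b * σ (v b)) : False := by
  classical
  obtain ⟨h, hh, hy⟩ := O.exists_swap hblk hab hal hbl ha hb hN
  set m := g⁻¹ * h * g with hm
  have hmono : Mono m := O.conj_mono hA hg hh (s := 1) (a := i₀) (by
    rw [hv, one_smul]
    obtain ⟨e1, e2, e3, e4⟩ := hy v
    funext i
    by_cases h1 : i = a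
    · rw [h1, e1, div_mul_cancel₀ _ hb]
    by_cases h2 : i = b
    · rw [h2, e2, div_mul_cancel₀ _ ha]
    by_cases h3 : i = l
    · rw [h3, e3, hl, neg_zero]
    · exact e4 i h1 h2 h3)
  obtain ⟨π, cc, S⟩ := hmono.shape
  obtain ⟨z, hz⟩ : ∃ z : Fin n → F, z = fun i => if i = a then v a else if i = b then v b else 0 :=
    ⟨_, rfl⟩
  have hneg : ∀ r : F, -r = r := fun r => by linear_combination -r * h2
  have hcoef : ∀ y : Fin n → F, (h : Matrix (Fin n) (Fin n) F) *ᵥ y - y =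
      (y a / v a + y b / v b) • z := fun y => by
    obtain ⟨e1, e2, e3, e4⟩ := hy y
    funext i
    simp only [Pi.sub_apply, Pi.smul_apply, smul_eq_mul, hz]
    by_cases h1 : i = a
    · subst h1
      rw [e1, if_pos rfl]
      field_simp
      linear_combination (-(y i * v b)) * h2
    by_cases h2' : i = b
    · subst h2'
      rw [e2, if_neg h1, if_pos rfl]
      field_simp
      linear_combination (-(y i * v a)) * h2
    by_cases h3' : i = l
    · subst h3'
      rw [e3, if_neg h1, if_neg h2', hneg]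
      ring
    · rw [e4 i h1 h2' h3', if_neg h1, if_neg h2']
      ring
  set z₀ := ((g⁻¹ : GL (Fin n) F) : Matrix (Fin n) (Fin n) F) *ᵥ z with hz0
  have hdiff : ∀ x, ∃ s : F, (m : Matrix (Fin n) (Fin n) F) *ᵥ x - x = s • z₀ ∧
      s = ((g : Matrix (Fin n) (Fin n) F) *ᵥ x) a / v a +
        ((g : Matrix (Fin n) (Fin n) F) *ᵥ x) b / v b := fun x => by
    refine ⟨_, ?_, rfl⟩
    rw [hz0, ← Matrix.mulVec_smul, ← hcoef, Matrix.mulVec_sub, TransvMax.inv_mulVec_mulVec, hm,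
      Units.val_mul, Units.val_mul, ← Matrix.mulVec_mulVec, ← Matrix.mulVec_mulVec]
  obtain ⟨j, hj⟩ : ∃ j, (m : Matrix (Fin n) (Fin n) F) *ᵥ Pi.single j 1 ≠ Pi.single j 1 := by
    by_contra hc
    push Not at hc
    obtain ⟨s, e, hs⟩ := hdiff (((g⁻¹ : GL (Fin n) F) : Matrix (Fin n) (Fin n) F) *ᵥ Pi.single a 1)
    rw [TransvMax.mulVec_inv_mulVec, Pi.single_eq_same, Pi.single_eq_of_ne hab.symm, zero_div,
      add_zero] at hs
    rw [show (m : Matrix (Fin n) (Fin n) F) = 1 from Matrix.ext_iff_mulVec.2 fun x => by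
      conv_lhs => rw [pi_eq_sum_univ' x]
      conv_rhs => rw [Matrix.one_mulVec, pi_eq_sum_univ' x]
      rw [Matrix.mulVec_sum]
      exact Finset.sum_congr rfl fun i _ => by rw [Matrix.mulVec_smul, hc], Matrix.one_mulVec,
      sub_self, eq_comm, smul_eq_zero] at e
    rcases e with e | e
    · rw [e, eq_comm] at hs
      exact one_div_ne_zero ha hs
    · have h' := congrArg ((g : Matrix (Fin n) (Fin n) F) *ᵥ ·) e
      simp only [hz0, TransvMax.mulVec_inv_mulVec, Matrix.mulVec_zero] at h'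
      have := congrFun h' a
      simp [hz, ha] at this
  obtain ⟨s, hs, -⟩ := hdiff (Pi.single j 1)
  have hs0 : s ≠ 0 := fun e => hj (by rw [e, zero_smul, sub_eq_zero] at hs; exact hs)
  have hz₀supp : ∀ i, i ≠ j → i ≠ π j → z₀ i = 0 := fun i h1 h2' => by
    have := congrFun hs i
    rw [S.map, Pi.sub_apply, Pi.smul_apply, Pi.single_eq_of_ne h1, Pi.single_eq_of_ne h2', smul_zero,
      sub_zero, Pi.smul_apply, smul_eq_mul, eq_comm, mul_eq_zero] at this
    exact this.resolve_left hs0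
  obtain ⟨μ, hμ, hμ'⟩ := O.sq.exists_nonreal
  have hμ1 : μ ≠ 1 := fun e => hμ' (by rw [e, map_one])
  obtain ⟨u, hu_def⟩ : ∃ u : Fin n → F,
      u = fun i => if i = a ∨ i = b then μ else if i = l then (μ * μ)⁻¹ else 1 := ⟨_, rfl⟩
  have hu : ∀ i, u i * σ (u i) = 1 := fun i => by
    rw [hu_def]
    dsimp only
    split_ifs
    · exact hμ
    · exact Sq.unit_inv' (Sq.unit_mul hμ hμ)
    · simp
  have hu1 : ∏ i, u i = 1 := by
    rw [← Finset.prod_subset (Finset.subset_univ {a, b, l}) (fun i _ hi => by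
      simp only [Finset.mem_insert, Finset.mem_singleton, not_or] at hi
      simp [hu_def, hi.1, hi.2.1, hi.2.2]), Finset.prod_insert (by simp [hab, hal]),
      Finset.prod_insert (by simp [hbl]), Finset.prod_singleton]
    have := Sq.unit_ne_zero hμ
    simp only [hu_def, hal.symm, hbl.symm, true_or, or_true, or_self, ↓reduceIte]
    field_simp
  have hDK := O.dia_mem hu hu1
  set x := ((g⁻¹ * dia u (fun i => Sq.unit_ne_zero (hu i)) * g : GL (Fin n) F) :
    Matrix (Fin n) (Fin n) F) *ᵥ Pi.single i₀ 1 with hx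
  have hxe : x = Pi.single i₀ 1 + (μ - 1) • z₀ := by
    rw [hx, conj_mulVec, hv, hz0, ← Matrix.mulVec_smul,
      ← TransvMax.inv_mulVec_mulVec g (Pi.single i₀ 1), hv, ← Matrix.mulVec_add]
    congr 1
    funext i
    simp only [Pi.add_apply, Pi.smul_apply, smul_eq_mul, hz, hu_def]
    by_cases h1 : i = a
    · subst h1; simp; ring
    by_cases h2' : i = b
    · subst h2'; simp [h1]; ring
    by_cases h3' : i = l
    · subst h3'; simp [h1, h2', hl]
    · simp [h1, h2', h3']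
  have hzi : z₀ i₀ = 0 := by
    have h' := iso_of_mem (O.le hg) z₀ (Pi.single i₀ 1)
    rw [show (g : Matrix (Fin n) (Fin n) F) *ᵥ z₀ = z by rw [hz0, TransvMax.mulVec_inv_mulVec], hv,
      O.sq.herm_apply, O.sq.herm_apply] at h'
    rw [sum_pair hab (fun i h1 h2' => by simp [hz, h1, h2']),
      Finset.sum_eq_single i₀ (fun i _ hi => by simp [hi]) (by simp)] at h'
    simp [hz, hab.symm, hN] at h'
    rw [← h', ← two_mul, h2, zero_mul]
  obtain ⟨p, hp⟩ : ∃ p, z₀ p ≠ 0 := by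
    by_contra hc
    push Not at hc
    have h' := congrArg ((g : Matrix (Fin n) (Fin n) F) *ᵥ ·) (funext hc : z₀ = 0)
    simp only [hz0, TransvMax.mulVec_inv_mulVec, Matrix.mulVec_zero] at h'
    have := congrFun h' a
    simp [hz, ha] at this
  have hsingle : Single x := O.single_of_many h3 hA
    ⟨_, K.mul_mem (K.mul_mem (K.inv_mem hg) hDK) hg, i₀, rfl⟩ {i₀, j, π j}
    (Finset.card_le_three.trans (by norm_num)) fun i hi => by
      simp only [Finset.mem_insert, Finset.mem_singleton, not_or] at hi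
      rw [hxe, Pi.add_apply, Pi.smul_apply, hz₀supp i hi.2.1 hi.2.2, Pi.single_eq_of_ne hi.1,
        smul_zero, add_zero]
  obtain ⟨r, hr⟩ := hsingle
  have hpi : p ≠ i₀ := fun e => hp (e ▸ hzi)
  have r1 : r = i₀ := by
    by_contra hne
    have := hr i₀ (Ne.symm hne)
    simp [hxe, hzi] at this
  have := hr p (by rw [r1]; exact hpi)
  simp [hxe, hpi, hp, sub_eq_zero, hμ1] at this

/-- An orbit vector with a zero is on a coordinate line. -/
theorem single_of_zero (h3 : 3 ≤ q) (hA : O.AllFix) (hblk : Function.Injective blk) {v : Fin n → F}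
    (hv : O.Orb v) {l : Fin n} (hl : v l = 0) : Single v := by
  classical
  by_cases h : ∃ c, c ≠ l ∧ v c = 0
  · obtain ⟨c, hc, hc0⟩ := h
    exact O.single_of_two h3 hA hv hc hc0 hl
  push Not at h
  obtain ⟨ζ, hζ, hζk⟩ := O.sq.exists_gen
  by_cases hn : ζ ^ n = 1
  swap
  · exact O.single_of_scalar h3 hA hv hl hζ hn
  have hnq : q < n := by
    by_contra hc
    exact hζk n (by have := O.dim; omega) (by omega) hn
  obtain ⟨a, ha, b, hb, hab, hN⟩ : ∃ a ∈ Finset.univ.erase l, ∃ b ∈ Finset.univ.erase l, a ≠ b ∧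
      v a * σ (v a) = v b * σ (v b) := by
    by_contra hc
    push Not at hc
    have h1 := O.sq.card_fixed (insert 0 ((Finset.univ.erase l).image fun i => v i * σ (v i)))
      fun x hx => by
        simp only [Finset.mem_insert, Finset.mem_image] at hx
        rcases hx with rfl | ⟨i, -, rfl⟩
        · exact map_zero σ
        · exact norm_fixed O.sq.invol _
    rw [Finset.card_insert_of_notMem (by
        simp only [Finset.mem_image, Finset.mem_erase, Finset.mem_univ, and_true, not_exists, not_and]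
        intro i hi e
        exact mul_ne_zero (h i hi) ((map_ne_zero σ).2 (h i hi)) e),
      Finset.card_image_of_injOn fun x hx y hy e => by_contra fun hne => hc x hx y hy hne e,
      Finset.card_erase_of_mem (Finset.mem_univ l), Finset.card_univ, Fintype.card_fin] at h1
    omega
  simp only [Finset.mem_erase, Finset.mem_univ, and_true] at ha hb
  obtain ⟨g, hg, i₀, rfl⟩ := hv
  by_cases h2 : (2 : F) = 0
  · exact (O.single_of_swap_even h3 hA h2 hblk hg hab ha hb rfl hl (h a ha) (h b hb) hN).elim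
  · exact O.single_of_swap_odd h3 hA h2 hblk hg hab ha hb rfl hl (h a ha) (h b hb) hN i₀

/-- If all line stabilisers are monomial, so is the group. -/
theorem mono_of_allFix (h3 : 3 ≤ q) (hA : O.AllFix) (hblk : Function.Injective blk) :
    ∀ g ∈ K, Mono g := by
  classical
  intro g hg
  by_contra hng
  have hfull : ∀ i j, ((g : Matrix (Fin n) (Fin n) F) *ᵥ Pi.single j 1) i ≠ 0 := fun i j e =>
    hng (hA g hg j (O.single_of_zero h3 hA hblk ⟨g, hg, j, rfl⟩ e))
  have hn := O.dim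
  let i : Fin n := ⟨0, by omega⟩
  set a : Fin n → F := fun j => ((g : Matrix (Fin n) (Fin n) F) *ᵥ Pi.single j 1) i *
    σ (((g : Matrix (Fin n) (Fin n) F) *ᵥ Pi.single j 1) i)
  have ha : ∀ j, a j ≠ 0 := fun j => mul_ne_zero (hfull i j) ((map_ne_zero σ).2 (hfull i j))
  obtain ⟨B₁, -, hB₁⟩ := Finset.exists_subset_card_eq (s := (Finset.univ : Finset (Fin n))) (n := 4)
    (by rw [Finset.card_univ, Fintype.card_fin]; omega)
  obtain ⟨B₂, hB₂s, hB₂⟩ := Finset.exists_subset_card_eq (s := Finset.univ \ B₁) (n := 5) (by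
    rw [Finset.card_sdiff_of_subset (Finset.subset_univ _), Finset.card_univ, Fintype.card_fin]; omega)
  set B₃ := Finset.univ \ (B₁ ∪ B₂) with hB₃def
  have hdisj : Disjoint B₁ B₂ := Finset.disjoint_left.2 fun x hx hx' =>
    (Finset.mem_sdiff.1 (hB₂s hx')).2 hx
  have hB₃ : 4 ≤ B₃.card := by
    rw [hB₃def, Finset.card_sdiff_of_subset (Finset.subset_univ _), Finset.card_univ, Fintype.card_fin,
      Finset.card_union_of_disjoint hdisj]
    omega
  obtain ⟨u₁, hu₁, -, hs₁⟩ := O.sq.exists_sum B₁ a (fun j _ => ha j) (by omega) 0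
  obtain ⟨u₂, hu₂, -, hs₂⟩ := O.sq.exists_sum B₂ a (fun j _ => ha j) (by omega) 0
  obtain ⟨u₃, hu₃, -, hs₃⟩ := O.sq.exists_sum B₃ a (fun j _ => ha j) hB₃ 0
  have hsplit : ∀ {M : Type _} [AddCommMonoid M] (f : Fin n → M),
      ∑ j, f j = ∑ j ∈ B₁, f j + ∑ j ∈ B₂, f j + ∑ j ∈ B₃, f j := fun {M} _ f => by
    rw [← Finset.sum_union hdisj, hB₃def, add_comm, Finset.sum_sdiff (Finset.subset_univ _)]
  have hsplit' : ∀ f : Fin n → F, ∏ j, f j = (∏ j ∈ B₁, f j) * (∏ j ∈ B₂, f j) * ∏ j ∈ B₃, f j :=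
    fun f => by
    rw [← Finset.prod_union hdisj, hB₃def, mul_comm, Finset.prod_sdiff (Finset.subset_univ _)]
  set P := (∏ j ∈ B₁, u₁ j) * (∏ j ∈ B₂, u₂ j) * ∏ j ∈ B₃, u₃ j with hP
  have hPu : P * σ P = 1 := Sq.unit_mul (Sq.unit_mul (Sq.unit_prod _ fun j _ => hu₁ j)
    (Sq.unit_prod _ fun j _ => hu₂ j)) (Sq.unit_prod _ fun j _ => hu₃ j)
  have hP0 := Sq.unit_ne_zero hPu
  have hgi : ∀ j, (((g⁻¹ : GL (Fin n) F) : Matrix (Fin n) (Fin n) F) *ᵥ Pi.single i 1) j =
      σ (((g : Matrix (Fin n) (Fin n) F) *ᵥ Pi.single j 1) i) := fun j => O.inv_entry hg i j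
  obtain ⟨δ, hδ, hδ1, hδ2⟩ := O.sq.exists_delta h3
  have hd0 := Sq.unit_ne_zero hδ
  -- two elements with a zero entry
  have build : ∀ x y : F, x * σ x = 1 → y * σ y = 1 → x ^ 4 * y ^ 5 = 1 →
      ∃ u : Fin n → F, ∃ hu : ∀ j, u j * σ (u j) = 1,
        (∀ j, j ∈ B₁ → u j = x * (P * u₁ j)) ∧ (∀ j, j ∈ B₂ → u j = y * (P⁻¹ * u₂ j)) ∧
        (∀ j, j ∈ B₃ → u j = u₃ j) ∧
        Mono (g * dia u (fun j => Sq.unit_ne_zero (hu j)) * g⁻¹) := by
    intro x y hx hy hxy
    obtain ⟨u, hudef⟩ : ∃ u : Fin n → F, u = fun j =>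
        if j ∈ B₁ then x * (P * u₁ j) else if j ∈ B₂ then y * (P⁻¹ * u₂ j) else u₃ j := ⟨_, rfl⟩
    have e1 : ∀ j ∈ B₁, u j = x * (P * u₁ j) := fun j hj => by simp [hudef, hj]
    have e2 : ∀ j ∈ B₂, u j = y * (P⁻¹ * u₂ j) := fun j hj => by
      simp [hudef, hj, Finset.disjoint_right.1 hdisj hj]
    have e3 : ∀ j ∈ B₃, u j = u₃ j := fun j hj => by
      simp only [hB₃def, Finset.mem_sdiff, Finset.mem_union, not_or] at hj
      simp [hudef, hj.2.1, hj.2.2]
    have hu : ∀ j, u j * σ (u j) = 1 := fun j => by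
      rw [hudef]; dsimp only
      split_ifs
      · exact Sq.unit_mul hx (Sq.unit_mul hPu (hu₁ j))
      · exact Sq.unit_mul hy (Sq.unit_mul (Sq.unit_inv' hPu) (hu₂ j))
      · exact hu₃ j
    refine ⟨u, hu, e1, e2, e3, ?_⟩
    have q1 : ∏ j ∈ B₁, u j = x ^ 4 * P ^ 4 * ∏ j ∈ B₁, u₁ j := by
      rw [Finset.prod_congr rfl (fun j hj => by rw [e1 j hj, ← mul_assoc]
        : ∀ j ∈ B₁, u j = x * P * u₁ j), Finset.prod_mul_distrib, Finset.prod_const, hB₁, mul_pow]
    have q2 : ∏ j ∈ B₂, u j = y ^ 5 * P⁻¹ ^ 5 * ∏ j ∈ B₂, u₂ j := by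
      rw [Finset.prod_congr rfl (fun j hj => by rw [e2 j hj, ← mul_assoc]
        : ∀ j ∈ B₂, u j = y * P⁻¹ * u₂ j), Finset.prod_mul_distrib, Finset.prod_const, hB₂, mul_pow]
    have hu1 : ∏ j, u j = 1 := by
      rw [hsplit', q1, q2, Finset.prod_congr rfl e3]
      have : P ^ 4 * P⁻¹ ^ 5 * P = 1 := by field_simp
      linear_combination (P ^ 4 * P⁻¹ ^ 5 * P) * hxy + this -
        (x ^ 4 * y ^ 5 * P ^ 4 * P⁻¹ ^ 5) * hP
    have hy' : g * dia u (fun j => Sq.unit_ne_zero (hu j)) * g⁻¹ ∈ K :=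
      K.mul_mem (K.mul_mem hg (O.dia_mem hu hu1)) (K.inv_mem hg)
    refine hA _ hy' i (O.single_of_zero h3 hA hblk ⟨_, hy', i, rfl⟩ (l := i) ?_)
    rw [Units.val_mul, Units.val_mul, ← Matrix.mulVec_mulVec, ← Matrix.mulVec_mulVec, dia_mulVec]
    have hlin : ∀ z : Fin n → F, ((g : Matrix (Fin n) (Fin n) F) *ᵥ z) i =
        ∑ j, z j * ((g : Matrix (Fin n) (Fin n) F) *ᵥ Pi.single j 1) i := fun z => by
      conv_lhs => rw [pi_eq_sum_univ' z]
      rw [Matrix.mulVec_sum, Finset.sum_apply]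
      exact Finset.sum_congr rfl fun j _ => by rw [Matrix.mulVec_smul, Pi.smul_apply, smul_eq_mul]
    rw [hlin, Finset.sum_congr rfl (fun j _ => by rw [hgi]; simp only [a]; ring
      : ∀ j ∈ (Finset.univ : Finset (Fin n)),
        u j * (((g⁻¹ : GL (Fin n) F) : Matrix (Fin n) (Fin n) F) *ᵥ Pi.single i 1) j *
          ((g : Matrix (Fin n) (Fin n) F) *ᵥ Pi.single j 1) i = a j * u j), hsplit,
      Finset.sum_congr rfl (fun j hj => by rw [e1 j hj]; ring
        : ∀ j ∈ B₁, a j * u j = x * P * (a j * u₁ j)),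
      Finset.sum_congr rfl (fun j hj => by rw [e2 j hj]; ring
        : ∀ j ∈ B₂, a j * u j = y * P⁻¹ * (a j * u₂ j)),
      Finset.sum_congr rfl (fun j hj => by rw [e3 j hj] : ∀ j ∈ B₃, a j * u j = a j * u₃ j),
      ← Finset.mul_sum, ← Finset.mul_sum, hs₁, hs₂, hs₃]
    ring
  obtain ⟨w₁, hw₁, p1, p2, p3, hy₁⟩ := build 1 1 (by simp) (by simp) (by simp)
  obtain ⟨w₂, hw₂, r1, r2, r3, hy₂⟩ := build (δ ^ 5) (δ ^ 4)⁻¹ (Sq.unit_pow hδ 5)
    (Sq.unit_inv' (Sq.unit_pow hδ 4)) (by field_simp)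
  have hw₁0 : ∀ j, w₁ j ≠ 0 := fun j => Sq.unit_ne_zero (hw₁ j)
  have hw₂0 : ∀ j, w₂ j ≠ 0 := fun j => Sq.unit_ne_zero (hw₂ j)
  obtain ⟨Δ, hΔ⟩ : ∃ Δ : Fin n → F, Δ = fun j => w₂ j / w₁ j := ⟨_, rfl⟩
  have hΔ0 : ∀ j, Δ j ≠ 0 := fun j => by rw [hΔ]; exact div_ne_zero (hw₂0 j) (hw₁0 j)
  obtain ⟨π₁, c₁, S₁⟩ := hy₁.shape
  have hm : Mono ((g⁻¹)⁻¹ * dia Δ hΔ0 * g⁻¹) := by
    have h := hy₂.mul S₁.mono_inv
    convert h using 1
    refine TransvMax.gl_ext fun x => ?_
    simp only [inv_inv, mul_inv_rev, Units.val_mul, ← Matrix.mulVec_mulVec, dia_mulVec,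
      TransvMax.inv_mulVec_mulVec]
    congr 1
    funext j
    have e : ∀ z : Fin n → F, ((dia w₁ hw₁0)⁻¹ : GL (Fin n) F).val *ᵥ z = fun r => (w₁ r)⁻¹ * z r :=
      fun z => funext fun r => Matrix.mulVec_diagonal _ z r
    rw [e, hΔ]
    ring
  obtain ⟨π, cc, S⟩ := hm.shape
  set α := δ ^ 5 with hα
  set β := (δ ^ 4)⁻¹ with hβ
  have hval : ∀ j, Δ j = α ∨ Δ j = β ∨ Δ j = 1 := fun j => by
    by_cases h1 : j ∈ B₁
    · left
      rw [hΔ]; dsimp only
      rw [r1 j h1, p1 j h1, one_mul, mul_div_assoc, div_self (mul_ne_zero hP0 (Sq.unit_ne_zero (hu₁ j))),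
        mul_one]
    by_cases h2 : j ∈ B₂
    · right; left
      rw [hΔ]; dsimp only
      rw [r2 j h2, p2 j h2, one_mul, mul_div_assoc,
        div_self (mul_ne_zero (inv_ne_zero hP0) (Sq.unit_ne_zero (hu₂ j))), mul_one]
    · right; right
      have h3' : j ∈ B₃ := by simp [hB₃def, h1, h2]
      rw [hΔ]; dsimp only
      rw [r3 j h3', p3 j h3', div_self (Sq.unit_ne_zero (hu₃ j))]
  have hαβ : α * β = δ := by rw [hα, hβ]; field_simp
  have hs : α + β + 1 ≠ 0 := by
    intro e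
    refine hδ1 ?_
    rw [← hαβ]
    have e' := congrArg σ e
    have hσα : σ α = α⁻¹ := Sq.unit_inv (Sq.unit_pow hδ 5)
    have hσβ : σ β = β⁻¹ := Sq.unit_inv (Sq.unit_inv' (Sq.unit_pow hδ 4))
    rw [map_add, map_add, map_one, map_zero, hσα, hσβ] at e'
    have hα0 : α ≠ 0 := pow_ne_zero _ hd0
    have hβ0 : β ≠ 0 := inv_ne_zero (pow_ne_zero _ hd0)
    field_simp at e'
    linear_combination e' - e
  have hfix : ∀ j, π j = j := by
    intro j
    by_cases hne : (α + β + 1) * (α * β + α * 1 + β * 1) ≠ α * β * 1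
    · exact ((S.cube_fix (cube_conj g⁻¹ Δ hΔ0 hval) hs) j).2 hne
    push Not at hne
    have hprod : (α + β) * ((α + 1) * (β + 1)) = 0 := by linear_combination hne
    have hcases : (2 : F) = 0 := by
      by_contra h2
      obtain ⟨d4, d5, d9⟩ := hδ2.resolve_left h2
      rcases mul_eq_zero.1 hprod with e | e
      · refine d9 ?_
        have : δ ^ 5 = -(δ ^ 4)⁻¹ := eq_neg_of_add_eq_zero_left e
        rw [show δ ^ 9 = δ ^ 5 * δ ^ 4 by ring, this, neg_mul, inv_mul_cancel₀ (pow_ne_zero _ hd0)]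
      rcases mul_eq_zero.1 e with e | e
      · exact d5 (eq_neg_of_add_eq_zero_left e)
      · refine d4 ?_
        have : (δ ^ 4)⁻¹ = -1 := eq_neg_of_add_eq_zero_left e
        rw [← inv_inv (δ ^ 4), this, inv_neg, inv_one]
    -- two values only
    have hadd : ∀ x y : F, x + y = 0 → x = y := fun x y e => by linear_combination e - y * hcases
    rcases mul_eq_zero.1 hprod with e | e
    · have hαb := hadd _ _ e
      refine (S.sq_fix (quad_conj g⁻¹ Δ hΔ0 (α := α) (β := 1) fun r => ?_) j).2 fun e1 => ?_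
      · rcases hval r with h | h | h
        · exact Or.inl h
        · exact Or.inl (h.trans hαb.symm)
        · exact Or.inr h
      · have := hadd _ _ e1
        exact hδ1 (by rw [← hαβ, ← hαb, this, one_mul])
    rcases mul_eq_zero.1 e with e | e
    · have h1 := hadd _ _ e
      refine (S.sq_fix (quad_conj g⁻¹ Δ hΔ0 (α := β) (β := 1) fun r => ?_) j).2 fun e1 => ?_
      · rcases hval r with h | h | h
        · exact Or.inr (h.trans h1)
        · exact Or.inl h
        · exact Or.inr h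
      · have := hadd _ _ e1
        exact hδ1 (by rw [← hαβ, h1, this, one_mul])
    · have h1 := hadd _ _ e
      refine (S.sq_fix (quad_conj g⁻¹ Δ hΔ0 (α := α) (β := 1) fun r => ?_) j).2 fun e1 => ?_
      · rcases hval r with h | h | h
        · exact Or.inl h
        · exact Or.inr (h.trans h1)
        · exact Or.inr h
      · have := hadd _ _ e1
        exact hδ1 (by rw [← hαβ, h1, this, one_mul])
  -- a diagonal element with full eigenvectors is scalar
  have hconst : ∀ p j, Δ j = cc p := by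
    intro p j
    have h := S.map p
    rw [hfix, conj_mulVec, inv_inv] at h
    have h' := congrArg (((g⁻¹ : GL (Fin n) F) : Matrix (Fin n) (Fin n) F) *ᵥ ·) h
    simp only [TransvMax.inv_mulVec_mulVec, Matrix.mulVec_smul] at h'
    have h'' := congrFun h' j
    rw [Pi.smul_apply, smul_eq_mul] at h''
    refine mul_right_cancel₀ ?_ h''
    rw [O.inv_entry hg]
    exact (map_ne_zero σ).2 (hfull p j)
  obtain ⟨j₁, hj₁⟩ := Finset.card_pos.1 (by omega : 0 < B₁.card)
  obtain ⟨j₂, hj₂⟩ := Finset.card_pos.1 (by omega : 0 < B₂.card)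
  obtain ⟨j₃, hj₃⟩ := Finset.card_pos.1 (by omega : 0 < B₃.card)
  have v1 : Δ j₁ = α := by
    rw [hΔ]; dsimp only
    rw [r1 _ hj₁, p1 _ hj₁, one_mul, mul_div_assoc,
      div_self (mul_ne_zero hP0 (Sq.unit_ne_zero (hu₁ _))), mul_one]
  have v2 : Δ j₂ = β := by
    rw [hΔ]; dsimp only
    rw [r2 _ hj₂, p2 _ hj₂, one_mul, mul_div_assoc,
      div_self (mul_ne_zero (inv_ne_zero hP0) (Sq.unit_ne_zero (hu₂ _))), mul_one]
  have v3 : Δ j₃ = 1 := by
    rw [hΔ]; dsimp only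
    rw [r3 _ hj₃, p3 _ hj₃, div_self (Sq.unit_ne_zero (hu₃ _))]
  rw [hconst i] at v1 v2 v3
  exact hδ1 (by rw [← hαβ, ← v1, ← v2, v3, one_mul])

end Over

end Cfsg.Agent.UFrame
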