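import Cfsg.Agent.Lib.TransvMax.UFrame.Cross

/-!
All isotropic centres from those with two coordinates.
-/

set_option autoImplicit false

namespace Cfsg.Agent.UFrame

open scoped Matrix MatrixGroups
open Cfsg.Agent

variable {F : Type*} [Field F] [Fintype F] {n q t : ℕ} {σ : F ≃+* F} {blk : Fin n → Fin t}
  {K : Subgroup (GL (Fin n) F)}

/-- The support of a vector. -/
noncomputable def supp (v : Fin n → F) : Finset (Fin n) := by
  classical exact Finset.univ.filter fun i => v i ≠ 0

omit [Fintype F] in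
@[simp]
theorem mem_supp {v : Fin n → F} {i : Fin n} : i ∈ supp v ↔ v i ≠ 0 := by simp [supp]

omit [Fintype F] in
theorem not_mem_supp {v : Fin n → F} {i : Fin n} (h : i ∉ supp v) : v i = 0 := by
  simpa using h

omit [Fintype F] in
theorem supp_lt {v v' : Fin n → F} {a b : Fin n} (ha : v a ≠ 0) (hb : v b ≠ 0) (hb' : v' b = 0)
    (h : ∀ i, i ≠ a → i ≠ b → v' i = v i) : (supp v').card < (supp v).card := by
  refine Finset.card_lt_card ((Finset.ssubset_iff_of_subset ?_).2 ⟨b, mem_supp.2 hb, by simp [hb']⟩)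
  intro i hi
  rw [mem_supp] at hi ⊢
  by_cases h1 : i = a
  · rwa [h1]
  by_cases h2 : i = b
  · rwa [h2]
  · rwa [← h i h1 h2]

namespace Sq

variable {S : Sq q σ}

theorem incl_herm (S : Sq q σ) {m : ℕ} (s : Fin m ↪ Fin n) (x : Fin n → F) (v : Fin m → F) :
    Cfsg.hermForm n F q x (incl F s *ᵥ v) = Cfsg.hermForm m F q (fun r => x (s r)) v := by
  rw [S.herm_apply, S.herm_apply, sum_emb s _ _ (fun _ => (0 : F))
    (fun r => by rw [incl_mulVec_mem]) (fun i hi => by rw [incl_mulVec_notMem s _ hi, map_zero, mul_zero]),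
    Finset.sum_const_zero, add_zero]

end Sq

namespace Over

variable (O : Over q σ blk K)

include O

/-- All rotations, from all centres with two coordinates. -/
theorem rot_of_allDb (h : O.AllDb) {a b : Fin n} (hab : a ≠ b) : O.Rot a b := by
  intro A B hAB
  obtain ⟨g, hg, hgm⟩ := exists_rot O.sq hAB
  refine ⟨embGL (pairEmb a b hab) g, ?_, fun x => ?_⟩
  · have hr : g ∈ (Matrix.SpecialLinearGroup.toGL :
        Matrix.SpecialLinearGroup (Fin 2) F →* GL (Fin 2) F).range := by
      rw [LinGrp.range_toGL_eq_ker_det]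
      exact hg.2
    obtain ⟨s, rfl⟩ := hr
    let ψ : ↥(Cfsg.SU 2 F q) →* GL (Fin n) F :=
      (embGL (pairEmb a b hab)).comp (Matrix.SpecialLinearGroup.toGL.comp (Cfsg.SU 2 F q).subtype)
    let A₀ : ↥(Cfsg.SU 2 F q) := ⟨s, hg.1⟩
    have hA : A₀ ∈ Subgroup.closure {A : ↥(Cfsg.SU 2 F q) | ∃ (v : Fin 2 → F) (c : F),
        Cfsg.hermForm 2 F q v v = 0 ∧ ((A : Matrix.SpecialLinearGroup (Fin 2) F) :
          Matrix (Fin 2) (Fin 2) F) = Cfsg.unitaryTransvection 2 q v c} := by
      rw [FormsLib.closure_unitaryTransvection O.sq.card 2 (by omega)]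
      trivial
    show ψ A₀ ∈ K
    refine (Subgroup.closure_le (K := K.comap ψ)).2 ?_ hA
    rintro M ⟨v, c, hv, hM⟩
    show ψ M ∈ K
    set M' := (Matrix.SpecialLinearGroup.toGL.comp (Cfsg.SU 2 F q).subtype) M with hM'
    have hMv : (M' : Matrix (Fin 2) (Fin 2) F) = Cfsg.unitaryTransvection 2 q v c := hM
    have hMx : ∀ y, (M' : Matrix (Fin 2) (Fin 2) F) *ᵥ y =
        y + (c * Cfsg.hermForm 2 F q y v) • v := by
      intro y
      rw [hMv, Cfsg.unitaryTransvection, Matrix.add_mulVec, Matrix.one_mulVec, Matrix.smul_mulVec,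
        Matrix.vecMulVec_mulVec, Cfsg.hermForm]
      ext i
      simp only [Pi.add_apply, Pi.smul_apply, op_smul_eq_mul, smul_eq_mul, dotProduct,
        mul_comm (y _)]
      ring
    rcases eq_or_ne v 0 with rfl | hv0
    · rw [show ψ M = 1 from ?_]
      · exact K.one_mem
      · show embGL (pairEmb a b hab) M' = 1
        rw [show M' = 1 from TransvMax.gl_ext fun y => by
          rw [hMx, smul_zero, add_zero, Units.val_one, Matrix.one_mulVec], map_one]
    have hf := O.sq.unitary 2
    have he : c + σ c = 0 := by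
      obtain ⟨y, hy⟩ := (hf.nondegenerate v hv0).1
      have hiso : Cfsg.hermForm 2 F q ((M' : Matrix (Fin 2) (Fin 2) F) *ᵥ y)
          ((M' : Matrix (Fin 2) (Fin 2) F) *ᵥ y) = Cfsg.hermForm 2 F q y y := M.2 y y
      rw [hMx, hf.add_left, TransvMax.herm_add_right hf, TransvMax.herm_add_right hf,
        TransvMax.herm_smul_right hf, TransvMax.herm_smul_right hf, hf.smul_left, hf.smul_left, hv,
        map_mul, ← hf.herm v y, hf.herm v y] at hiso
      have h2 : (c + σ c) * (Cfsg.hermForm 2 F q y v * σ (Cfsg.hermForm 2 F q y v)) = 0 := by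
        linear_combination hiso
      exact (mul_eq_zero.1 h2).resolve_right (mul_ne_zero hy (by simpa using hy))
    set w := incl F (pairEmb a b hab) *ᵥ v with hw
    have hwo : ∀ i, i ≠ a → i ≠ b → w i = 0 := fun i h1 h2 =>
      incl_mulVec_notMem _ _ fun r => by
        fin_cases r
        · exact h1
        · exact h2
    have hww : Cfsg.hermForm n F q w w = 0 := by
      rw [hw, O.sq.incl_herm]
      simp only [incl_mulVec_mem]
      exact hv
    convert (h a b hab w hwo (by rw [← O.sq.herm_apply]; exact hww)).mem hww he using 1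
    refine TransvMax.gl_ext fun y => ?_
    rw [TransvMax.utrv_mulVec]
    show (embGL (pairEmb a b hab) M' : Matrix (Fin n) (Fin n) F) *ᵥ y = _
    funext i
    rw [embGL_val, hw, O.sq.incl_herm, Pi.add_apply, Pi.smul_apply]
    by_cases hi : ∀ r, i ≠ pairEmb a b hab r
    · rw [emb_mulVec_notMem _ _ _ hi, incl_mulVec_notMem _ _ hi, smul_zero, add_zero]
    · push Not at hi
      obtain ⟨r, rfl⟩ := hi
      rw [emb_mulVec_mem, hMx, incl_mulVec_mem]
      rfl
  · rw [embGL_val, hgm]
    refine ⟨?_, ?_, fun i hia hib => emb_mulVec_notMem _ _ _ fun r => ?_⟩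
    · have := emb_mulVec_mem (pairEmb a b hab) !![A, B; -σ B, σ A] x 0
      simpa [Matrix.mulVec, dotProduct, Fin.sum_univ_two] using this
    · have := emb_mulVec_mem (pairEmb a b hab) !![A, B; -σ B, σ A] x 1
      simpa [Matrix.mulVec, dotProduct, Fin.sum_univ_two] using this
    · fin_cases r
      · exact hia
      · exact hib

/-- Moving the support of a centre. -/
theorem cen_move (h : O.AllDb) {u : Fin n → F} (hu : O.Cen u) (T : Finset (Fin n))
    (hT : T.card = (supp u).card) : ∃ u', O.Cen u' ∧ supp u' = T := by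
  induction hm : (supp u \ T).card using Nat.strong_induction_on generalizing u with
  | _ m ih =>
  subst hm
  by_cases hne : supp u = T
  · exact ⟨u, hu, hne⟩
  obtain ⟨b, hb⟩ : (supp u \ T).Nonempty := by
    rw [Finset.sdiff_nonempty]
    exact fun hs => hne (Finset.eq_of_subset_of_card_le hs hT.le)
  obtain ⟨a, ha⟩ : (T \ supp u).Nonempty := by
    rw [Finset.sdiff_nonempty]
    exact fun hs => hne (Finset.eq_of_subset_of_card_le hs hT.ge).symm
  simp only [Finset.mem_sdiff, mem_supp] at hb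
  obtain ⟨ha, ha'⟩ := Finset.mem_sdiff.1 ha
  have hua := not_mem_supp ha'
  have hab : a ≠ b := fun e => hb.2 (e ▸ ha)
  obtain ⟨g, hg, hgx⟩ := O.rot_of_allDb h hab (A := 0) (B := 1) (by simp)
  obtain ⟨h1, h2, h3⟩ := hgx u
  set u' := (g : Matrix (Fin n) (Fin n) F) *ᵥ u
  have hsupp : supp u' = insert a ((supp u).erase b) := by
    ext i
    simp only [mem_supp, Finset.mem_insert, Finset.mem_erase]
    by_cases hia : i = a
    · simp [hia, h1, hb.1]
    by_cases hib : i = b
    · simp [hib, h2, hua, hab.symm]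
    · simp [hia, hib, h3 i hia hib]
  have hcard : (supp u').card = (supp u).card := by
    rw [hsupp, Finset.card_insert_of_notMem (fun h => ha' (Finset.mem_of_mem_erase h)),
      Finset.card_erase_of_mem (mem_supp.2 hb.1)]
    have := Finset.card_pos.2 ⟨b, mem_supp.2 hb.1⟩
    omega
  refine ih (supp u' \ T).card ?_ (O.cen_map hu hg) (hT.trans hcard.symm) rfl
  refine Finset.card_lt_card ((Finset.ssubset_iff_of_subset ?_).2
    ⟨b, by simp [hb.1, hb.2], by simp [hsupp, hb.1, hab.symm, hb.2]⟩)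
  intro i hi
  simp only [Finset.mem_sdiff, hsupp, Finset.mem_insert, Finset.mem_erase] at hi ⊢
  rcases hi.1 with rfl | h'
  · exact absurd ha hi.2
  · exact ⟨h'.2, hi.2⟩

omit O in
theorem q_two (S : Sq q σ) (h : q = 2) :
    (2 : F) = 0 ∧ (∀ x : F, x ≠ 0 → x * σ x = 1) ∧
      ∃ μ : F, μ * σ μ = 1 ∧ μ + σ μ = 1 := by
  subst h
  have hnorm : ∀ x : F, x ≠ 0 → x * σ x = 1 := fun x hx => by
    have := FiniteField.pow_card_sub_one_eq_one x hx
    rw [S.card] at this
    rw [S.pow]
    linear_combination this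
  have h2 : (2 : F) = 0 := by
    have hcast := FiniteField.cast_card_eq_zero F
    rw [S.card] at hcast
    push_cast at hcast
    exact mul_self_eq_zero.1 (show (2 : F) * 2 = 0 by linear_combination hcast)
  refine ⟨h2, hnorm, ?_⟩
  obtain ⟨μ, hμ, hμ'⟩ := S.exists_nonreal
  have hμ1 : μ - 1 ≠ 0 := sub_ne_zero.2 fun e => hμ' (by rw [e, map_one])
  refine ⟨μ, hμ, ?_⟩
  have h1 := hnorm _ hμ1
  rw [Sq.norm_sub_one hμ] at h1
  linear_combination -h1

/-- The centres with two coordinates, and four for the field with four elements, give all. -/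
theorem cen_all (h : O.AllDb) (hquad : q = 2 → ∃ u, O.Cen u ∧ (supp u).card = 4) :
    ∀ v : Fin n → F, ∑ i, v i * σ (v i) = 0 → O.Cen v := by
  intro v
  induction hs : (supp v).card using Nat.strong_induction_on generalizing v with
  | _ s ih =>
  subst hs
  intro hv
  by_cases hs2 : (supp v).card ≤ 2
  · obtain ⟨T, hT, hTc⟩ := Finset.exists_superset_card_eq hs2 (by
      rw [Fintype.card_fin]
      have := O.dim
      omega)
    obtain ⟨a, b, hab, rfl⟩ := Finset.card_eq_two.1 hTc
    refine h a b hab v (fun i h1 h2 => not_mem_supp fun hi => ?_) hv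
    simpa [h1, h2] using hT hi
  have back : ∀ {g : GL (Fin n) F}, g ∈ K → ∀ {v'}, (g : Matrix (Fin n) (Fin n) F) *ᵥ v = v' →
      O.Cen v' → O.Cen v := by
    intro g hg v' e hv'
    have := O.cen_map hv' (K.inv_mem hg)
    rwa [← e, TransvMax.inv_mulVec_mulVec] at this
  have isov : ∀ {g : GL (Fin n) F}, g ∈ K → ∀ {v'}, (g : Matrix (Fin n) (Fin n) F) *ᵥ v = v' →
      ∑ i, v' i * σ (v' i) = 0 := by
    intro g hg v' e
    rw [← e, ← O.sq.herm_apply, iso_of_mem (O.le hg), O.sq.herm_apply, hv]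
  by_cases hpair : ∃ a b, a ≠ b ∧ v a ≠ 0 ∧ v b ≠ 0 ∧ v a * σ (v a) + v b * σ (v b) ≠ 0
  · obtain ⟨a, b, hab, ha, hb, hS⟩ := hpair
    obtain ⟨g, hg, v', e, hb', -, -, ho⟩ := O.exists_fold (O.rot_of_allDb h hab) hS
    exact back hg e (ih _ (supp_lt ha hb hb' ho) _ rfl (isov hg e))
  push Not at hpair
  obtain ⟨a, ha⟩ := Finset.card_pos.1 (by omega : 0 < (supp v).card)
  obtain ⟨b, hb, hba⟩ := Finset.exists_mem_ne (by omega : 1 < (supp v).card) a
  obtain ⟨c, hc, hc'⟩ := Finset.exists_mem_notMem_of_card_lt_card (s := ({a, b} : Finset (Fin n)))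
    (t := supp v) (by have := Finset.card_le_two (a := a) (b := b); omega)
  simp only [Finset.mem_insert, Finset.mem_singleton, not_or] at hc'
  rw [mem_supp] at ha hb hc
  have eab := hpair a b hba.symm ha hb
  have eac := hpair a c (Ne.symm hc'.1) ha hc
  have ebc := hpair b c (Ne.symm hc'.2) hb hc
  set N := v a * σ (v a) with hN
  have hN0 : N ≠ 0 := mul_ne_zero ha ((map_ne_zero σ).2 ha)
  have h2 : (2 : F) = 0 := (mul_eq_zero.1 (show 2 * N = 0 by linear_combination eab + eac - ebc)).resolve_right hN0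
  by_cases hq : q = 2
  · -- four coordinates
    obtain ⟨-, hnorm, μ, hμ, hμ1⟩ := q_two O.sq hq
    have hs4 : 4 ≤ (supp v).card := by
      by_contra hc4
      have h3 : (supp v).card = 3 := by omega
      rw [← Finset.sum_subset (Finset.subset_univ (supp v)) (fun i _ hi => by
        rw [not_mem_supp hi, zero_mul]), Finset.sum_congr rfl (fun i hi => hnorm _ (mem_supp.1 hi))] at hv
      simp only [Finset.sum_const, h3, nsmul_eq_mul, mul_one] at hv
      push_cast at hv
      exact one_ne_zero (show (1 : F) = 0 by linear_combination hv - h2)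
    obtain ⟨T, hT, hTc⟩ := Finset.exists_subset_card_eq hs4
    obtain ⟨i, r, hir, rfl, hr⟩ := Finset.card_eq_succ.1 hTc
    obtain ⟨j, k, l, hjk, hjl, hkl, rfl⟩ := Finset.card_eq_three.1 hr
    simp only [Finset.mem_insert, Finset.mem_singleton, not_or] at hir
    obtain ⟨u₀, hu₀, hu₀4⟩ := hquad hq
    obtain ⟨u₁, hu₁, hu₁T⟩ := O.cen_move h hu₀ _ (hTc.trans hu₀4.symm)
    obtain ⟨ρ, hρ_def⟩ : ∃ ρ : Fin n → F,
        ρ = fun x => if x = k then μ else if x = l then σ μ else 1 := ⟨_, rfl⟩
    have hρ : ∀ x, ρ x ≠ 0 := fun x => by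
      rw [hρ_def]
      dsimp only
      split_ifs
      · exact Sq.unit_ne_zero hμ
      · exact (map_ne_zero σ).2 (Sq.unit_ne_zero hμ)
      · exact one_ne_zero
    set T : Finset (Fin n) := {i, j, k, l} with hTdef
    obtain ⟨z, -, hzT⟩ := Finset.exists_mem_notMem_of_card_lt_card (s := T) (t := Finset.univ) (by
      rw [hTc, Finset.card_univ, Fintype.card_fin]
      have := O.dim
      omega)
    obtain ⟨π, hπ_def⟩ : ∃ π : F, π = ∏ x ∈ T, v x * ρ x / u₁ x := ⟨_, rfl⟩
    have hfac : ∀ x ∈ T, v x * ρ x / u₁ x ≠ 0 := fun x hx =>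
      div_ne_zero (mul_ne_zero (mem_supp.1 (hT hx)) (hρ x)) (mem_supp.1 (hu₁T ▸ hx))
    have hπ0 : π ≠ 0 := hπ_def ▸ Finset.prod_ne_zero_iff.2 hfac
    obtain ⟨d, hd_def⟩ : ∃ d : Fin n → F,
        d = fun x => if x ∈ T then v x * ρ x / u₁ x else if x = z then π⁻¹ else 1 := ⟨_, rfl⟩
    have hd : ∀ x, d x * σ (d x) = 1 := fun x => by
      refine hnorm _ ?_
      rw [hd_def]
      dsimp only
      split_ifs with h1
      · exact hfac x h1
      · exact inv_ne_zero hπ0
      · exact one_ne_zero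
    have hd1 : ∏ x, d x = 1 := by
      rw [← Finset.prod_subset (Finset.subset_univ (insert z T)) (fun x _ hx => by
        simp only [Finset.mem_insert, not_or] at hx
        simp [hd_def, hx.1, hx.2]), Finset.prod_insert hzT, Finset.prod_congr rfl (fun x hx => by
          simp [hd_def, hx] : ∀ x ∈ T, d x = v x * ρ x / u₁ x), ← hπ_def]
      simp [hd_def, hzT, hπ0]
    have hu := O.cen_map hu₁ (O.dia_mem hd hd1)
    rw [dia_mulVec] at hu
    set u := fun x => d x * u₁ x
    have huT : ∀ x, x ∈ T → u x = v x * ρ x := fun x hx => by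
      show d x * u₁ x = _
      rw [show d x = v x * ρ x / u₁ x by simp [hd_def, hx],
        div_mul_cancel₀ _ (mem_supp.1 (hu₁T ▸ hx))]
    have huo : ∀ x, x ∉ T → u x = 0 := fun x hx => by
      show d x * u₁ x = 0
      rw [not_mem_supp (show x ∉ supp u₁ from hu₁T.symm ▸ hx), mul_zero]
    have hγ : Cfsg.hermForm n F q v u = 1 := by
      rw [O.sq.herm_apply, ← Finset.sum_subset (Finset.subset_univ T) (fun x _ hx => by
        rw [huo x hx, map_zero, mul_zero]), Finset.sum_congr rfl (fun x hx => by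
          rw [huT x hx, map_mul, ← mul_assoc, hnorm _ (mem_supp.1 (hT hx)), one_mul]
            : ∀ x ∈ T, v x * σ (u x) = σ (ρ x)),
        hTdef, Finset.sum_insert (by simp [hir]), Finset.sum_insert (by simp [hjk, hjl]),
        Finset.sum_insert (by simp [hkl]), Finset.sum_singleton]
      simp only [hρ_def, hir.2.1, hir.2.2, hjk, hjl, hkl.symm, ↓reduceIte, map_one, O.sq.invol]
      linear_combination hμ1 + h2
    have huu : Cfsg.hermForm n F q u u = 0 := hu.1
    have hone : (1 : F) + σ 1 = 0 := by rw [map_one]; linear_combination h2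
    have hg := TransvMax.IsoCentre.mem hu huu hone
    have e : (TransvMax.utrv (O.sq.unitary n) huu 1 : Matrix (Fin n) (Fin n) F) *ᵥ v = v + u := by
      rw [TransvMax.utrv_mulVec, hγ, mul_one, one_smul]
    refine back hg e (ih _ ?_ _ rfl (isov hg e))
    refine Finset.card_lt_card ((Finset.ssubset_iff_of_subset ?_).2
      ⟨i, hT (by simp [hTdef]), ?_⟩)
    · intro x hx
      rw [mem_supp, Pi.add_apply] at hx
      rw [mem_supp]
      intro hvx
      exact hx (by rw [hvx, huo x (fun hxT => mem_supp.1 (hT hxT) hvx), add_zero])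
    · rw [mem_supp, not_not, Pi.add_apply, huT i (by simp [hTdef]),
        show ρ i = 1 by simp [hρ_def, hir.2.1, hir.2.2]]
      linear_combination (v i) * h2
  · obtain ⟨ν, hν0, hν⟩ := (FormsLib.hermB_isUnitary O.sq.card n (σ := σ.toRingHom) O.sq.pow O.sq.invol
      O.sq.two_le).2 (by have := O.sq.two_le; omega)
    obtain ⟨g, hg, v', e, hva, ho⟩ := O.exists_retarget (O.rot_of_allDb h hba.symm) ha eab
      (x := v a * ν) (mul_ne_zero ha hν0)
    have hle : (supp v').card ≤ (supp v).card := by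
      refine Finset.card_le_card fun x hx => ?_
      rw [mem_supp] at hx ⊢
      by_cases h1 : x = a
      · rwa [h1]
      by_cases h2 : x = b
      · rwa [h2]
      · rwa [← ho x h1 h2]
    have hva0 : v' a ≠ 0 := hva ▸ mul_ne_zero ha hν0
    have hvc : v' c = v c := ho c hc'.1 hc'.2
    have hS : v' a * σ (v' a) + v' c * σ (v' c) ≠ 0 := by
      rw [hva, hvc, map_mul, show v a * ν * (σ (v a) * σ ν) + v c * σ (v c) = N * (ν * σ ν - 1) by
        rw [hN]; linear_combination eac]
      exact mul_ne_zero hN0 (sub_ne_zero.2 hν)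
    obtain ⟨g', hg', v'', e', hc0, -, -, ho'⟩ := O.exists_fold (O.rot_of_allDb h (Ne.symm hc'.1)) hS
    refine back hg e ?_
    have h1 : ∑ i, v'' i * σ (v'' i) = 0 := by
      rw [← e', ← O.sq.herm_apply, iso_of_mem (O.le hg'), O.sq.herm_apply, isov hg e]
    have h3 := ih _ (lt_of_lt_of_le (supp_lt hva0 (hvc ▸ hc) hc0 ho') hle) _ rfl h1
    have h4 := O.cen_map h3 (K.inv_mem hg')
    rwa [← e', TransvMax.inv_mulVec_mulVec] at h4

end Over

end Cfsg.Agent.UFrame
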