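import Cfsg.Agent.Lib.TransvMax.UFrame.OrbitZero

/-!
A non-monomial element fixing a coordinate line gives an isotropic centre.
-/

set_option autoImplicit false

namespace Cfsg.Agent.UFrame

open scoped Matrix MatrixGroups
open Cfsg.Agent

variable {F : Type*} [Field F] [Fintype F] {n q t : ℕ} {σ : F ≃+* F} {blk : Fin n → Fin t}
  {K : Subgroup (GL (Fin n) F)}

namespace Over

variable (O : Over q σ blk K)

include O

/-- A torus of pseudo-reflections at `v`, corrected at the coordinate `i`. -/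
structure Tor (O : Over q σ blk K) (i : Fin n) (v : Fin n → F) : Prop where
  zero : v i = 0
  one : Cfsg.hermForm n F q v v = 1
  act : ∀ l : F, l * σ l = 1 → ∃ g ∈ K, ∀ y : Fin n → F, (g : Matrix (Fin n) (Fin n) F) *ᵥ y =
    y + ((l - 1) * Cfsg.hermForm n F q y v) • v + ((l⁻¹ - 1) * y i) • Pi.single i 1

theorem herm_single (y : Fin n → F) (i : Fin n) :
    Cfsg.hermForm n F q y (Pi.single i 1) = y i := by
  rw [O.sq.herm_apply, Finset.sum_eq_single i (fun j _ hj => by simp [hj]) (by simp)]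
  simp

theorem line_norm {g : GL (Fin n) F} (hg : g ∈ K) {i : Fin n} {s : F}
    (h : (g : Matrix (Fin n) (Fin n) F) *ᵥ Pi.single i 1 = s • Pi.single i 1) : s * σ s = 1 := by
  have h1 := iso_of_mem (O.le hg) (Pi.single i 1) (Pi.single i 1)
  rw [h, O.herm_single, TransvMax.herm_smul_right (O.sq.unitary n), O.herm_single] at h1
  simpa [mul_comm] using h1

theorem line_perp {g : GL (Fin n) F} (hg : g ∈ K) {i : Fin n} {s : F}
    (h : (g : Matrix (Fin n) (Fin n) F) *ᵥ Pi.single i 1 = s • Pi.single i 1) {y : Fin n → F}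
    (hy : y i = 0) : ((g : Matrix (Fin n) (Fin n) F) *ᵥ y) i = 0 := by
  have h1 := iso_of_mem (O.le hg) y (Pi.single i 1)
  rw [h, TransvMax.herm_smul_right (O.sq.unitary n), O.herm_single, O.herm_single, hy] at h1
  refine (mul_eq_zero.1 h1).resolve_left fun e => ?_
  have := O.line_norm hg h
  rw [e, mul_zero] at this
  exact zero_ne_one this

theorem tor_map {i : Fin n} {v : Fin n → F} (T : O.Tor i v) {g : GL (Fin n) F} (hg : g ∈ K) {s : F}
    (h : (g : Matrix (Fin n) (Fin n) F) *ᵥ Pi.single i 1 = s • Pi.single i 1) :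
    O.Tor i ((g : Matrix (Fin n) (Fin n) F) *ᵥ v) := by
  refine ⟨O.line_perp hg h T.zero, by rw [iso_of_mem (O.le hg)]; exact T.one, fun l hl => ?_⟩
  obtain ⟨r, hr, hry⟩ := T.act l hl
  refine ⟨g * r * g⁻¹, K.mul_mem (K.mul_mem hg hr) (K.inv_mem hg), fun y => ?_⟩
  obtain ⟨x, rfl⟩ : ∃ x, (g : Matrix (Fin n) (Fin n) F) *ᵥ x = y :=
    ⟨_, TransvMax.mulVec_inv_mulVec g y⟩
  rw [Units.val_mul, Units.val_mul, ← Matrix.mulVec_mulVec, ← Matrix.mulVec_mulVec,
    TransvMax.inv_mulVec_mulVec, hry, Matrix.mulVec_add, Matrix.mulVec_add, Matrix.mulVec_smul,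
    Matrix.mulVec_smul, iso_of_mem (O.le hg)]
  congr 1
  have h1 := iso_of_mem (O.le hg) x (Pi.single i 1)
  rw [h, TransvMax.herm_smul_right (O.sq.unitary n), O.herm_single, O.herm_single] at h1
  rw [h, smul_smul]
  congr 1
  have hs := O.line_norm hg h
  rw [← h1]
  linear_combination ((l⁻¹ - 1) * ((g : Matrix (Fin n) (Fin n) F) *ᵥ x) i) * hs

theorem tor_single {i p : Fin n} (hpi : p ≠ i) : O.Tor i (Pi.single p 1) := by
  refine ⟨Pi.single_eq_of_ne hpi.symm _, by rw [O.herm_single, Pi.single_eq_same], fun l hl => ?_⟩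
  obtain ⟨u, hu, hu1, hup, hui, huo⟩ := exists_pair_values (σ := σ) p i hpi hl
  refine ⟨_, O.dia_mem hu hu1, fun y => ?_⟩
  rw [dia_mulVec, O.herm_single]
  funext j
  simp only [Pi.add_apply, Pi.smul_apply, smul_eq_mul]
  by_cases h1 : j = p
  · subst h1; rw [hup, Pi.single_eq_same, Pi.single_eq_of_ne hpi]; ring
  by_cases h2 : j = i
  · subst h2; rw [hui, Pi.single_eq_same, Pi.single_eq_of_ne h1]; ring
  · rw [huo j h1 h2, Pi.single_eq_of_ne h1, Pi.single_eq_of_ne h2]; ring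

/-- A larger support. -/
theorem tor_grow (hblk : Function.Injective blk) (h3 : 3 ≤ q) {i : Fin n} {v : Fin n → F}
    (T : O.Tor i v) (h2 : 2 ≤ (supp v).card) (h5 : (supp v).card ≤ 5) :
    ∃ v', O.Tor i v' ∧ (supp v).card < (supp v').card := by
  classical
  set S := supp v with hS
  obtain ⟨j, hj⟩ := Finset.card_pos.1 (by omega : 0 < S.card)
  set A := S.erase j with hA
  have hiS : i ∉ S := fun h => mem_supp.1 h T.zero
  obtain ⟨B, hB, hBc⟩ := Finset.exists_subset_card_eq (s := Finset.univ \ insert i S) (n := A.card) (by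
    rw [Finset.card_sdiff_of_subset (Finset.subset_univ _), Finset.card_univ, Fintype.card_fin,
      Finset.card_insert_of_notMem hiS, hA, Finset.card_erase_of_mem hj]
    have := O.dim
    omega)
  have hBS : ∀ x ∈ B, x ≠ i ∧ x ∉ S := fun x hx => by
    have := (Finset.mem_sdiff.1 (hB hx)).2
    simp only [Finset.mem_insert, not_or] at this
    exact this
  have hAB : ∀ x ∈ A, x ∉ B := fun x hx hx' => (hBS x hx').2 (Finset.mem_of_mem_erase hx)
  let e : A ≃ B := Fintype.equivOfCardEq (by simp [hBc])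
  let f : Fin n → Fin n := fun x => if h : x ∈ A then e ⟨x, h⟩ else if h' : x ∈ B then e.symm ⟨x, h'⟩ else x
  have hf : Function.Involutive f := fun x => by
    by_cases h : x ∈ A
    · have h1 : (e ⟨x, h⟩ : Fin n) ∈ B := (e ⟨x, h⟩).2
      have h2 : (e ⟨x, h⟩ : Fin n) ∉ A := fun h' => hAB _ h' h1
      simp [f, h, h1, h2]
    by_cases h' : x ∈ B
    · have h1 : (e.symm ⟨x, h'⟩ : Fin n) ∈ A := (e.symm ⟨x, h'⟩).2
      simp [f, h, h', h1]
    · simp [f, h, h']
  set π : Equiv.Perm (Fin n) := hf.toPerm with hπ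
  have hπA : ∀ x ∈ A, π x ∈ B := fun x hx => by simp [hπ, f, hx]
  have hπB : ∀ x ∈ B, π x ∈ A := fun x hx => by
    have : x ∉ A := fun h => hAB x h hx
    simp [hπ, f, hx, this]
  have hπo : ∀ x, x ∉ A → x ∉ B → π x = x := fun x h h' => by simp [hπ, f, h, h']
  have hπi : π i = i := hπo i (fun h => hiS (Finset.mem_of_mem_erase h)) fun h => (hBS i h).1 rfl
  have hπj : π j = j := hπo j (Finset.notMem_erase j S) fun h => (hBS j h).2 hj
  have hsymm : π.symm = π := hf.symm_eq_self_of_involutive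
  set sg := ((Equiv.Perm.sign π : ℤ) : F) with hsg
  have hsg1 : sg * σ sg = 1 ∧ sg * sg = 1 := by
    rcases Int.units_eq_one_or (Equiv.Perm.sign π) with h | h <;> simp [hsg, h]
  obtain ⟨u, hu_def⟩ : ∃ u : Fin n → F, u = fun x => if x = i then sg else 1 := ⟨_, rfl⟩
  have hu : ∀ x, u x * σ (u x) = 1 := fun x => by
    rw [hu_def]; dsimp only
    split_ifs
    · exact hsg1.1
    · simp
  have hu1 : sg * ∏ x, u x = 1 := by
    rw [Fintype.prod_eq_single i fun x hx => by simp [hu_def, hx]]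
    simp [hu_def, hsg1.2]
  have hg := O.mon_mem (π := π) (fun a b => ⟨fun h => by rw [hblk h], fun h => by
    rw [π.injective (hblk h)]⟩) hu hu1
  have hgi : (mon π u (fun x => Sq.unit_ne_zero (hu x)) : Matrix (Fin n) (Fin n) F) *ᵥ Pi.single i 1 =
      sg • Pi.single i 1 := by
    rw [mon_mulVec, hsymm]
    funext x
    by_cases h : x = i
    · subst h; simp [hπi, hu_def]
    · have : π x ≠ i := fun e => h (π.injective (e.trans hπi.symm))
      simp [this, h]
  have Ty := O.tor_map T hg hgi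
  set y := (mon π u (fun x => Sq.unit_ne_zero (hu x)) : Matrix (Fin n) (Fin n) F) *ᵥ v with hy
  have hyx : ∀ x, x ≠ i → y x = v (π x) := fun x hx => by
    rw [hy, mon_mulVec, hsymm]
    have : π x ≠ i := fun e => hx (π.injective (e.trans hπi.symm))
    simp [hu_def, this]
  have hyB : ∀ x ∈ B, y x ≠ 0 := fun x hx => by
    rw [hyx x (hBS x hx).1]
    exact mem_supp.1 (Finset.mem_of_mem_erase (hπB x hx))
  have hyA : ∀ x ∈ A, y x = 0 := fun x hx => by
    rw [hyx x fun e => hiS (e ▸ Finset.mem_of_mem_erase hx)]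
    exact not_mem_supp (hBS _ (hπA x hx)).2
  have hyj : y j = v j := by rw [hyx j fun e => hiS (e ▸ hj), hπj]
  set N := v j * σ (v j) with hN
  have hN0 : N ≠ 0 := mul_ne_zero (mem_supp.1 hj) ((map_ne_zero σ).2 (mem_supp.1 hj))
  have hfy : Cfsg.hermForm n F q y v = N := by
    rw [O.sq.herm_apply, Finset.sum_eq_single j (fun x _ hx => ?_) (by simp), hyj]
    by_cases h : x ∈ S
    · rw [hyA x (Finset.mem_erase.2 ⟨hx, h⟩), zero_mul]
    · rw [not_mem_supp h, map_zero, mul_zero]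
  obtain ⟨l, hl, hl1, hlN⟩ : ∃ l, l * σ l = 1 ∧ l ≠ 1 ∧ 1 + (l - 1) * N ≠ 0 := by
    obtain ⟨g, hg, hgk⟩ := O.sq.exists_gen
    have g1 := hgk 1 (by norm_num) (by omega)
    have g2 := hgk 2 (by norm_num) (by omega)
    rw [pow_one] at g1
    by_cases h : 1 + (g - 1) * N = 0
    · refine ⟨g ^ 2, Sq.unit_pow hg 2, g2, fun e => ?_⟩
      have h' : g * (g - 1) * N = 0 := by linear_combination e - h
      exact mul_ne_zero (mul_ne_zero (Sq.unit_ne_zero hg) (sub_ne_zero.2 g1)) hN0 h'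
    · exact ⟨g, hg, g1, h⟩
  obtain ⟨r, hr, hry⟩ := T.act l hl
  have hri : (r : Matrix (Fin n) (Fin n) F) *ᵥ Pi.single i 1 = l⁻¹ • Pi.single i 1 := by
    rw [hry, show Cfsg.hermForm n F q (Pi.single i 1) v = 0 by
      rw [O.sq.herm_apply, Finset.sum_eq_single i (fun x _ hx => by simp [hx]) (by simp)]
      simp [T.zero], Pi.single_eq_same, mul_zero, zero_smul, add_zero, mul_one, sub_smul, one_smul]
    abel
  refine ⟨_, O.tor_map Ty hr hri, ?_⟩
  have hval : ∀ x, ((r : Matrix (Fin n) (Fin n) F) *ᵥ y) x = y x + (l - 1) * N * v x := fun x => by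
    rw [hry, hfy, Ty.zero]
    simp
  refine Finset.card_lt_card ((Finset.ssubset_iff_of_subset fun x hx => ?_).2 ?_)
  · rw [mem_supp, hval]
    by_cases h : x = j
    · subst h
      rw [hyj, show v x + (l - 1) * N * v x = (1 + (l - 1) * N) * v x by ring]
      exact mul_ne_zero hlN (mem_supp.1 hx)
    · rw [hyA x (Finset.mem_erase.2 ⟨h, hx⟩), zero_add]
      exact mul_ne_zero (mul_ne_zero (sub_ne_zero.2 hl1) hN0) (mem_supp.1 hx)
  · obtain ⟨x, hx⟩ := Finset.card_pos.1 (by
      rw [hBc, hA, Finset.card_erase_of_mem hj]; omega : 0 < B.card)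
    refine ⟨x, ?_, (hBS x hx).2⟩
    rw [mem_supp, hval, not_mem_supp (hBS x hx).2, mul_zero, add_zero]
    exact hyB x hx

/-- An isotropic centre from a torus with large support. -/
theorem cen_of_tor {i : Fin n} {v : Fin n → F} (T : O.Tor i v) (h6 : 6 ≤ (supp v).card) :
    ∃ z, O.Cen z ∧ z ≠ 0 ∧ z i = 0 := by
  classical
  obtain ⟨j₁, hj₁⟩ := Finset.card_pos.1 (by omega : 0 < (supp v).card)
  obtain ⟨j₂, hj₂, hj₂₁⟩ := Finset.exists_mem_ne (by omega : 1 < (supp v).card) j₁
  obtain ⟨γ, hγ, hγ'⟩ := O.sq.exists_nonreal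
  have hγ1 : γ ≠ 1 := fun e => hγ' (by rw [e, map_one])
  set N : Fin n → F := fun x => v x * σ (v x) with hN
  set R := ((supp v).erase j₁).erase j₂ with hR
  have hRs : ∀ x ∈ R, x ≠ j₁ ∧ x ≠ j₂ ∧ v x ≠ 0 := fun x hx => by
    simp only [hR, Finset.mem_erase, mem_supp] at hx
    exact ⟨hx.2.1, hx.1, hx.2.2⟩
  obtain ⟨u, hu, huo, hsum⟩ := O.sq.exists_sum R N
    (fun x hx => mul_ne_zero (hRs x hx).2.2 ((map_ne_zero σ).2 (hRs x hx).2.2))
    (by rw [hR, Finset.card_erase_of_mem (Finset.mem_erase.2 ⟨hj₂₁, hj₂⟩),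
      Finset.card_erase_of_mem hj₁]; omega)
    (1 - N j₁ - γ * N j₂)
  have hij₂ : i ≠ j₂ := fun e => mem_supp.1 hj₂ (e ▸ T.zero)
  have hij₁ : i ≠ j₁ := fun e => mem_supp.1 hj₁ (e ▸ T.zero)
  have hiR : i ∉ R := fun h => (hRs i h).2.2 T.zero
  set P := ∏ x ∈ R, u x with hP
  have hPu : P * σ P = 1 := Sq.unit_prod _ fun x _ => hu x
  obtain ⟨d, hd_def⟩ : ∃ d : Fin n → F,
      d = fun x => if x = j₂ then γ else if x = i then (γ * P)⁻¹ else u x := ⟨_, rfl⟩
  have hd : ∀ x, d x * σ (d x) = 1 := fun x => by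
    rw [hd_def]; dsimp only
    split_ifs
    · exact hγ
    · exact Sq.unit_inv' (Sq.unit_mul hγ hPu)
    · exact hu x
  have hdR : ∀ x ∈ R, d x = u x := fun x hx => by
    simp [hd_def, (hRs x hx).2.1, show x ≠ i from fun e => hiR (e ▸ hx)]
  have hd1 : ∏ x, d x = 1 := by
    rw [← Finset.prod_subset (Finset.subset_univ (insert j₂ (insert i R))) (fun x _ hx => by
      simp only [Finset.mem_insert, not_or] at hx
      simp [hd_def, hx.1, hx.2.1, huo x hx.2.2]), Finset.prod_insert (by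
        simp only [Finset.mem_insert, not_or]
        exact ⟨hij₂.symm, fun h => (hRs j₂ h).2.1 rfl⟩), Finset.prod_insert hiR,
      Finset.prod_congr rfl hdR, ← hP]
    simp only [hd_def, ↓reduceIte, hij₂]
    have := Sq.unit_ne_zero hγ
    have := Sq.unit_ne_zero hPu
    field_simp
  have hg := O.dia_mem hd hd1
  have hgi : (dia d (fun x => Sq.unit_ne_zero (hd x)) : Matrix (Fin n) (Fin n) F) *ᵥ Pi.single i 1 =
      d i • Pi.single i 1 := by
    rw [dia_mulVec]
    funext x
    by_cases h : x = i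
    · subst h; simp
    · simp [h]
  have Ty := O.tor_map T hg hgi
  rw [dia_mulVec] at Ty
  set y := fun x => d x * v x with hy
  have hyv : Cfsg.hermForm n F q y v = 1 := by
    rw [O.sq.herm_apply, ← Finset.sum_subset (Finset.subset_univ (supp v)) (fun x _ hx => by
      rw [not_mem_supp hx, map_zero, mul_zero]), ← Finset.add_sum_erase _ _ hj₁,
      ← Finset.add_sum_erase _ _ (Finset.mem_erase.2 ⟨hj₂₁, hj₂⟩), ← hR,
      Finset.sum_congr rfl (fun x hx => by
        simp only [hy, hdR x hx, hN]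
        ring : ∀ x ∈ R, y x * σ (v x) = N x * u x), hsum]
    have hd₁ : d j₁ = 1 := by
      simp [hd_def, hj₂₁.symm, hij₁.symm, huo j₁ fun h => (hRs j₁ h).1 rfl]
    have hd₂ : d j₂ = γ := by simp [hd_def]
    simp only [hy, hd₁, hd₂, hN]
    ring
  set z := y - v with hz
  have hf := O.sq.unitary n
  have hvy : Cfsg.hermForm n F q v y = 1 := by rw [hf.herm, hyv, map_one]
  have hzv : Cfsg.hermForm n F q z v = 0 := by
    rw [hz, TransvMax.herm_sub_left hf, hyv, T.one, sub_self]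
  have hvz : Cfsg.hermForm n F q v z = 0 := TransvMax.herm_eq_zero_comm hf hzv
  have hzz : Cfsg.hermForm n F q z z = 0 := by
    rw [hz, TransvMax.herm_sub_left hf, TransvMax.herm_sub_right hf, TransvMax.herm_sub_right hf,
      Ty.one, hyv, hvy, T.one]
    ring
  -- Siegel elements
  let G : F → Prop := fun α => ∃ c : F, ∃ g ∈ K, ∀ x : Fin n → F, (g : Matrix (Fin n) (Fin n) F) *ᵥ x =
    x + (α * Cfsg.hermForm n F q x z) • v +
      (c * Cfsg.hermForm n F q x z - σ α * Cfsg.hermForm n F q x v) • z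
  have hbase : ∀ l : F, l * σ l = 1 → G (l - 1) := by
    intro l hl
    have hl0 := Sq.unit_ne_zero hl
    obtain ⟨r, hr, hrx⟩ := Ty.act l hl
    obtain ⟨r', hr', hrx'⟩ := T.act l⁻¹ (Sq.unit_inv' hl)
    refine ⟨l - 1, r * r', K.mul_mem hr hr', fun x => ?_⟩
    rw [Units.val_mul, ← Matrix.mulVec_mulVec, hrx', hrx, inv_inv]
    have hei : ∀ w : Fin n → F, w i = 0 → Cfsg.hermForm n F q (Pi.single i 1) w = 0 := fun w hw => by
      rw [O.sq.herm_apply, Finset.sum_eq_single i (fun x _ hx => by simp [hx]) (by simp)]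
      simp [hw]
    have hy' : Cfsg.hermForm n F q x y = Cfsg.hermForm n F q x v + Cfsg.hermForm n F q x z := by
      rw [hz, TransvMax.herm_sub_right hf]; ring
    rw [hf.add_left, hf.add_left, hf.smul_left, hf.smul_left, hvy, hei y Ty.zero, hy',
      show σ (l - 1) = l⁻¹ - 1 by rw [map_sub, map_one, Sq.unit_inv hl],
      show y = z + v by rw [hz, sub_add_cancel]]
    funext k
    simp only [Pi.add_apply, Pi.smul_apply, smul_eq_mul, T.zero, Pi.single_eq_same, mul_zero,
      add_zero, mul_one]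
    field_simp
    ring
  have hmul : ∀ {α β : F} {c d : F} {g g' : GL (Fin n) F},
      (∀ x : Fin n → F, (g : Matrix (Fin n) (Fin n) F) *ᵥ x = x + (α * Cfsg.hermForm n F q x z) • v +
        (c * Cfsg.hermForm n F q x z - σ α * Cfsg.hermForm n F q x v) • z) →
      (∀ x : Fin n → F, (g' : Matrix (Fin n) (Fin n) F) *ᵥ x = x + (β * Cfsg.hermForm n F q x z) • v +
        (d * Cfsg.hermForm n F q x z - σ β * Cfsg.hermForm n F q x v) • z) →
      ∀ x : Fin n → F, ((g * g' : GL (Fin n) F) : Matrix (Fin n) (Fin n) F) *ᵥ x =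
        x + ((α + β) * Cfsg.hermForm n F q x z) • v +
        ((c + d - β * σ α) * Cfsg.hermForm n F q x z -
          σ (α + β) * Cfsg.hermForm n F q x v) • z := by
    intro α β c d g g' hgx hgx' x
    rw [Units.val_mul, ← Matrix.mulVec_mulVec, hgx', hgx, hf.add_left, hf.add_left, hf.smul_left,
      hf.smul_left, hf.add_left, hf.add_left, hf.smul_left, hf.smul_left, hvz, hzz, T.one, hzv,
      map_add]
    funext k
    simp only [Pi.add_apply, Pi.smul_apply, smul_eq_mul, mul_zero, add_zero]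
    ring
  have hadd : ∀ α β, G α → G β → G (α + β) := by
    rintro α β ⟨c, g, hg, hgx⟩ ⟨d, g', hg', hgx'⟩
    exact ⟨_, g * g', K.mul_mem hg hg', hmul hgx hgx'⟩
  have hall : ∀ α, G α := by
    intro α
    obtain ⟨a, b, c, d, ha, hb, hc, hd, e⟩ := O.sq.exists_four one_ne_zero one_ne_zero one_ne_zero
      one_ne_zero (α + 4)
    have := hadd _ _ (hadd _ _ (hbase a ha) (hbase b hb)) (hadd _ _ (hbase c hc) (hbase d hd))
    convert this using 1
    linear_combination -e
  have hzi : z i = 0 := by simp [hz, hy, T.zero]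
  have hz0 : z ≠ 0 := fun e => by
    have h := congrFun e j₂
    simp only [hz, hy, hd_def, ↓reduceIte, Pi.sub_apply, Pi.zero_apply] at h
    exact mul_ne_zero (sub_ne_zero.2 hγ1) (mem_supp.1 hj₂) (by linear_combination h)
  refine ⟨z, ⟨hzz, fun e he => ?_⟩, hz0, hzi⟩
  obtain ⟨τ, hτ⟩ := TransvMax.exists_trace_eq O.sq.ne_refl O.sq.invol (a := (1 : F)) (map_one σ)
  obtain ⟨c, g, hg, hgx⟩ := hall (τ * e)
  obtain ⟨c', g', hg', hgx'⟩ := hall 1
  convert K.mul_mem (K.mul_mem hg hg') (K.inv_mem (K.mul_mem hg' hg)) using 1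
  rw [eq_mul_inv_iff_mul_eq]
  refine TransvMax.gl_ext fun x => ?_
  rw [hmul hgx hgx' x, Units.val_mul, ← Matrix.mulVec_mulVec, TransvMax.utrv_mulVec, hmul hgx' hgx x,
    hf.add_left, hf.add_left, hf.smul_left, hf.smul_left, hvz, hzz]
  funext k
  simp only [Pi.add_apply, Pi.smul_apply, smul_eq_mul, mul_zero, add_zero, map_add, map_mul, map_one]
  have hσe : σ e = -e := eq_neg_of_add_eq_zero_right he
  rw [hσe]
  linear_combination (-(z k * e * Cfsg.hermForm n F q x z)) * hτ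

/-- A proper overgroup of the monomial group has an isotropic centre. -/
theorem exists_cen_mono (hblk : Function.Injective blk) (h3 : 3 ≤ q) {g₀ : GL (Fin n) F}
    (hg₀ : g₀ ∈ K) (hng : ¬ Mono g₀) : ∃ z c, O.Cen z ∧ z ≠ 0 ∧ z c = 0 := by
  classical
  obtain ⟨g, hg, a, hga, hgm⟩ : ∃ g ∈ K, ∃ a,
      Single ((g : Matrix (Fin n) (Fin n) F) *ᵥ Pi.single a 1) ∧ ¬ Mono g := by
    by_contra hc
    push Not at hc
    exact hng (O.mono_of_allFix h3 hc hblk g₀ hg₀)
  obtain ⟨c, hc⟩ := hga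
  have hgac := Single.eq hc
  set s := ((g : Matrix (Fin n) (Fin n) F) *ᵥ Pi.single a 1) c
  set sg := ((Equiv.Perm.sign (Equiv.swap c a) : ℤ) : F) with hsg
  have hsg1 : sg * σ sg = 1 ∧ sg * sg = 1 := by
    rcases Int.units_eq_one_or (Equiv.Perm.sign (Equiv.swap c a)) with h | h <;> simp [hsg, h]
  obtain ⟨u, hu_def⟩ : ∃ u : Fin n → F, u = fun x => if x = c then sg else 1 := ⟨_, rfl⟩
  have hu : ∀ x, u x * σ (u x) = 1 := fun x => by
    rw [hu_def]; dsimp only
    split_ifs
    · exact hsg1.1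
    · simp
  have hu1 : sg * ∏ x, u x = 1 := by
    rw [Fintype.prod_eq_single c fun x hx => by simp [hu_def, hx]]
    simp [hu_def, hsg1.2]
  have hM := O.mon_mem (π := Equiv.swap c a) (fun x y => ⟨fun h => by rw [hblk h], fun h => by
    rw [(Equiv.swap c a).injective (hblk h)]⟩) hu hu1
  set M := mon (Equiv.swap c a) u (fun x => Sq.unit_ne_zero (hu x)) with hMdef
  set x := M * g with hx
  have hxK : x ∈ K := K.mul_mem hM hg
  have hMmono : Mono M := fun b => ⟨Equiv.swap c a b, fun r hr => by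
    rw [hMdef, mon_mulVec]
    have : (Equiv.swap c a).symm r ≠ b := fun e => hr (by rw [← e, Equiv.apply_symm_apply])
    dsimp only
    rw [Pi.single_eq_of_ne this, mul_zero]⟩
  have hxm : ¬ Mono x := fun h => hgm (by
    obtain ⟨π, cc, S⟩ := hMmono.shape
    have := S.mono_inv.mul h
    rwa [hx, inv_mul_cancel_left] at this)
  have hxa : (x : Matrix (Fin n) (Fin n) F) *ᵥ Pi.single a 1 = (sg * s) • Pi.single a 1 := by
    rw [hx, Units.val_mul, ← Matrix.mulVec_mulVec, hgac, Matrix.mulVec_smul, hMdef, mon_mulVec]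
    funext r
    by_cases h : r = a
    · subst h; simp [hu_def, mul_comm]
    · have : (Equiv.swap c a).symm r ≠ c := fun e => h (by
        have := congrArg (Equiv.swap c a) e
        rwa [Equiv.apply_symm_apply, Equiv.swap_apply_left] at this)
      simp only [Pi.smul_apply, smul_eq_mul, Pi.single_eq_of_ne this, Pi.single_eq_of_ne h, mul_zero]
  obtain ⟨p, hp⟩ : ∃ p, ¬ Single ((x : Matrix (Fin n) (Fin n) F) *ᵥ Pi.single p 1) := by
    by_contra hc
    push Not at hc
    exact hxm hc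
  have hpa : p ≠ a := fun e => hp (e ▸ ⟨a, fun r hr => by rw [hxa]; simp [hr]⟩)
  have T := O.tor_map (O.tor_single hpa) hxK hxa
  set v := (x : Matrix (Fin n) (Fin n) F) *ᵥ Pi.single p 1
  have hv2 : 2 ≤ (supp v).card := by
    by_contra hc
    refine hp ?_
    obtain ⟨b, hb⟩ : ∃ b, supp v ⊆ {b} := by
      rcases Finset.eq_empty_or_nonempty (supp v) with h | ⟨b, hb⟩
      · exact ⟨a, by simp [h]⟩
      · exact ⟨b, fun r hr => Finset.mem_singleton.2 (Finset.card_le_one.1 (by omega) r hr b hb)⟩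
    exact ⟨b, fun r hr => not_mem_supp fun h => hr (Finset.mem_singleton.1 (hb h))⟩
  have key : ∀ k, ∀ v, O.Tor a v → 2 ≤ (supp v).card → 6 ≤ (supp v).card + k →
      ∃ v', O.Tor a v' ∧ 6 ≤ (supp v').card := by
    intro k
    induction k with
    | zero => exact fun v T _ h => ⟨v, T, by omega⟩
    | succ k ih =>
      intro v T h2 h
      by_cases h6 : 6 ≤ (supp v).card
      · exact ⟨v, T, h6⟩
      obtain ⟨v', T', hlt⟩ := O.tor_grow hblk h3 T h2 (by omega)
      exact ih v' T' (by omega) (by omega)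
  obtain ⟨v', T', h6⟩ := key 4 v T hv2 (by omega)
  obtain ⟨z, hz, hz0, hzi⟩ := O.cen_of_tor T' h6
  exact ⟨z, a, hz, hz0, hzi⟩

end Over

end Cfsg.Agent.UFrame
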